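import Mathlib
import Cfsg.Agent.H72.Push.PSL
import Cfsg.Agent.H51.SmallSL2
import Cfsg.Agent.H51.BlockStructure

/-!
Facts about `SL₂` over a finite field, its derived group and its Sylow subgroups, and an element of order four in
alternating groups, used for the linear blocks in pushing up.
-/

set_option autoImplicit false
set_option linter.unusedSectionVars false
set_option linter.style.haveILetI false

open scoped commutatorElement

namespace Cfsg.Agent.H21.Push.SL

open Matrix Cfsg.Agent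

variable {F : Type} [Field F] [Fintype F] {p n : ℕ} [hp : Fact p.Prime]

local notation "SL2" => SpecialLinearGroup (Fin 2) F
local notation "M2" => Matrix (Fin 2) (Fin 2) F

theorem exists_conj (hF : Fintype.card F = p ^ n) (P : Sylow p SL2) :
    ∃ c : SL2, ∀ x, x ∈ (P : Subgroup SL2) ↔ c⁻¹ * x * c ∈ H1.upperUni F := by
  haveI : CharP F p := H72.charP_of_card hF
  obtain ⟨c, rfl⟩ := MulAction.exists_smul_eq SL2 (H1.sylowSL (F := F) p) P
  refine ⟨c, fun x => ?_⟩
  rw [Sylow.coe_subgroup_smul, H1.coe_sylowSL, Subgroup.mem_pointwise_smul_iff_inv_smul_mem]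
  simp [MulAut.smul_def]

theorem upper_pow (hF : Fintype.card F = p ^ n) {x : SL2} (hx : x ∈ H1.upperUni F) : x ^ p = 1 := by
  haveI : CharP F p := H72.charP_of_card hF
  obtain ⟨a, rfl⟩ := hx
  rw [← map_pow]
  have : a ^ p = 1 := Multiplicative.toAdd.injective (by simp [nsmul_eq_mul])
  rw [this, map_one]

theorem upper_sq {x : SL2} (hx : x ∈ H1.upperUni F) : ((x : M2) - 1) * ((x : M2) - 1) = 0 := by
  obtain ⟨a, rfl⟩ := hx
  rw [H1.upperUniHom_val]
  ext i j
  fin_cases i <;> fin_cases j <;> simp [Matrix.mul_apply, Fin.sum_univ_two]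

theorem sylow_pow (hF : Fintype.card F = p ^ n) (P : Sylow p SL2) {x : SL2}
    (hx : x ∈ (P : Subgroup SL2)) : x ^ p = 1 := by
  obtain ⟨c, hc⟩ := exists_conj hF P
  have h := upper_pow hF ((hc x).1 hx)
  rw [show c⁻¹ * x * c = c⁻¹ * x * c⁻¹⁻¹ from by rw [inv_inv], conj_pow, inv_inv] at h
  calc x ^ p = c * (c⁻¹ * x ^ p * c) * c⁻¹ := by group
    _ = 1 := by rw [h]; group

theorem sylow_sq (hF : Fintype.card F = p ^ n) (P : Sylow p SL2) {x : SL2}
    (hx : x ∈ (P : Subgroup SL2)) : ((x : M2) - 1) * ((x : M2) - 1) = 0 := by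
  obtain ⟨c, hc⟩ := exists_conj hF P
  obtain ⟨y, hy, rfl⟩ : ∃ y ∈ H1.upperUni F, x = c * y * c⁻¹ := ⟨_, (hc x).1 hx, by group⟩
  have h1 : (c : M2) * ((c⁻¹ : SL2) : M2) = 1 := congrArg (fun g : SL2 => (g : M2)) (mul_inv_cancel c)
  have h2 : ((c⁻¹ : SL2) : M2) * (c : M2) = 1 := congrArg (fun g : SL2 => (g : M2)) (inv_mul_cancel c)
  have e : ((c * y * c⁻¹ : SL2) : M2) - 1 = (c : M2) * ((y : M2) - 1) * ((c⁻¹ : SL2) : M2) := by
    rw [Matrix.mul_sub, Matrix.sub_mul, mul_one, h1]
    rfl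
  rw [e]
  calc (c : M2) * ((y : M2) - 1) * ((c⁻¹ : SL2) : M2) * ((c : M2) * ((y : M2) - 1) * ((c⁻¹ : SL2) : M2))
      = (c : M2) * ((y : M2) - 1) * (((c⁻¹ : SL2) : M2) * (c : M2)) * ((y : M2) - 1) * ((c⁻¹ : SL2) : M2) := by
        simp only [mul_assoc]
    _ = 0 := by rw [h2, mul_one, mul_assoc (c : M2), upper_sq hy, mul_zero, zero_mul]

theorem card_sylow (hF : Fintype.card F = p ^ n) (P : Sylow p SL2) :
    Nat.card ↥(P : Subgroup SL2) = p ^ n := by
  haveI : CharP F p := H72.charP_of_card hF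
  rw [Sylow.card_eq_multiplicity P, ← Sylow.card_eq_multiplicity (H1.sylowSL (F := F) p), H1.coe_sylowSL,
    H1.card_upperUni, hF]

theorem sylow_ne_bot (hF : Fintype.card F = p ^ n) (P : Sylow p SL2) : (P : Subgroup SL2) ≠ ⊥ := by
  intro e
  have h := card_sylow hF P
  rw [e, Subgroup.card_bot] at h
  have := Fintype.one_lt_card (α := F)
  omega

/-- Elements normalising the upper group are triangular. -/
theorem exists_conj_triangular (hF : Fintype.card F = p ^ n) (P : Sylow p SL2) {x : SL2}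
    (hx : x ∈ Subgroup.normalizer ((P : Subgroup SL2) : Set SL2)) :
    ∃ c : SL2, ((c⁻¹ * x * c : SL2) : M2) 1 0 = 0 := by
  obtain ⟨c, hc⟩ := exists_conj hF P
  refine ⟨c, ?_⟩
  by_contra h
  refine H72.Push.PSL.moved _ h (Subgroup.ext fun y => ?_)
  set w := c⁻¹ * x * c with hw
  have key : ∀ u, u ∈ H1.upperUni F ↔ w * u * w⁻¹ ∈ H1.upperUni F := fun u => by
    have h1 := Subgroup.mem_normalizer_iff.1 hx (c * u * c⁻¹)
    rw [hc, hc] at h1
    rw [hw]
    simpa [mul_assoc] using h1
  constructor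
  · rintro ⟨u, hu, rfl⟩
    exact (key u).1 hu
  · intro hy
    refine ⟨w⁻¹ * y * w, (key _).2 ?_, ?_⟩
    · rwa [show w * (w⁻¹ * y * w) * w⁻¹ = y from by group]
    · show w * (w⁻¹ * y * w) * w⁻¹ = y
      group

/-- For the two smallest fields the normaliser of a Sylow subgroup has exponent dividing `2p`. -/
theorem pow_of_normalizes (hF : Fintype.card F = p ^ n) (hq : Fintype.card F ≤ 3) (P : Sylow p SL2) {x : SL2}
    (hx : x ∈ Subgroup.normalizer ((P : Subgroup SL2) : Set SL2)) : x ^ (2 * p) = 1 := by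
  obtain ⟨c, hc⟩ := exists_conj_triangular hF P hx
  set y := c⁻¹ * x * c with hy
  have hd := H72.Push.PSL.sl_det y
  rw [hc, mul_zero, sub_zero] at hd
  have hsq : ∀ a : F, a ≠ 0 → a * a = 1 := fun a ha => by
    have h1 := FiniteField.pow_card_sub_one_eq_one a ha
    have : Fintype.card F = 2 ∨ Fintype.card F = 3 := by
      have := Fintype.one_lt_card (α := F); omega
    rcases this with h | h <;> rw [h] at h1
    · rw [show (2 : ℕ) - 1 = 1 from rfl, pow_one] at h1
      rw [h1, one_mul]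
    · rwa [show (3 : ℕ) - 1 = 2 from rfl, pow_two] at h1
  have h00 : (y : M2) 0 0 * (y : M2) 0 0 = 1 := hsq _ (left_ne_zero_of_mul_eq_one hd)
  have h11 : (y : M2) 1 1 * (y : M2) 1 1 = 1 := hsq _ (right_ne_zero_of_mul_eq_one hd)
  have hmem : y * y ∈ H1.upperUni F := by
    refine ⟨Multiplicative.ofAdd ((y : M2) 0 0 * (y : M2) 0 1 + (y : M2) 0 1 * (y : M2) 1 1), Subtype.ext ?_⟩
    rw [H1.upperUniHom_val]
    show _ = (y : M2) * (y : M2)
    ext i j
    fin_cases i <;> fin_cases j <;> simp [Matrix.mul_apply, Fin.sum_univ_two, hc, h00, h11]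
  have h := upper_pow hF hmem
  rw [← pow_two, ← pow_mul, hy, show c⁻¹ * x * c = c⁻¹ * x * c⁻¹⁻¹ from by rw [inv_inv], conj_pow, inv_inv] at h
  calc x ^ (2 * p) = c * (c⁻¹ * x ^ (2 * p) * c) * c⁻¹ := by group
    _ = 1 := by rw [h]; group

/-- In odd characteristic an involution is central. -/
theorem mem_center_of_sq (h2 : (2 : F) ≠ 0) {x : SL2} (hx : x * x = 1) : x ∈ Subgroup.center SL2 := by
  have he : x = x⁻¹ := eq_inv_of_mul_eq_one_left hx
  have h := congrArg (fun g : SL2 => (g : M2)) he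
  replace h : (x : M2) = Matrix.adjugate (x : M2) := h
  rw [Matrix.adjugate_fin_two] at h
  have e00 := congrFun (congrFun h 0) 0
  have e01 := congrFun (congrFun h 0) 1
  have e10 := congrFun (congrFun h 1) 0
  simp at e00 e01 e10
  have h01 : (x : M2) 0 1 = 0 := (mul_eq_zero.1 (show (2 : F) * (x : M2) 0 1 = 0 by linear_combination e01)).resolve_left h2
  have h10 : (x : M2) 1 0 = 0 := (mul_eq_zero.1 (show (2 : F) * (x : M2) 1 0 = 0 by linear_combination e10)).resolve_left h2
  rw [Subgroup.mem_center_iff]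
  intro g
  refine Subtype.ext ?_
  show (g : M2) * (_ : M2) = (_ : M2) * (g : M2)
  ext i j
  fin_cases i <;> fin_cases j <;> simp [Matrix.mul_apply, Fin.sum_univ_two, h01, h10, ← e00] <;> ring

theorem neg_one_facts (h2 : (2 : F) ≠ 0) :
    ∃ z : SL2, z ∈ Subgroup.center SL2 ∧ z ≠ 1 := by
  let z : SL2 := ⟨!![-1, 0; 0, -1], by simp [Matrix.det_fin_two]⟩
  refine ⟨z, mem_center_of_sq h2 (Subtype.ext ?_), fun e => h2 ?_⟩
  · show (z : M2) * (z : M2) = 1
    ext i j
    fin_cases i <;> fin_cases j <;> simp [z, Matrix.mul_apply, Fin.sum_univ_two]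
  · have := congrArg (fun g : SL2 => (g : M2) 0 0) e
    simp [z] at this
    linear_combination -this

/-- In odd characteristic what centralises the derived group is central. -/
theorem mem_center_of_commute_derived (h2 : (2 : F) ≠ 0) {z : SL2}
    (hz : ∀ g ∈ commutator SL2, g * z = z * g) : z ∈ Subgroup.center SL2 := by
  let w : SL2 := ⟨!![0, 1; -1, 0], by simp [Matrix.det_fin_two]⟩
  let u : SL2 := ⟨!![1, 1; 0, 1], by simp [Matrix.det_fin_two]⟩
  let l : SL2 := ⟨!![1, 0; 1, 1], by simp [Matrix.det_fin_two]⟩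
  have e1 : ((⁅w, u⁆ : SL2) : M2) = !![1, -1; -1, 2] := by
    show (w : M2) * (u : M2) * Matrix.adjugate (w : M2) * Matrix.adjugate (u : M2) = _
    ext i j
    fin_cases i <;> fin_cases j <;>
      simp [w, u, Matrix.adjugate_fin_two, Matrix.mul_apply, Fin.sum_univ_two] <;> ring
  have e2 : ((⁅w, l⁆ : SL2) : M2) = !![2, -1; -1, 1] := by
    show (w : M2) * (l : M2) * Matrix.adjugate (w : M2) * Matrix.adjugate (l : M2) = _
    ext i j
    fin_cases i <;> fin_cases j <;>
      simp [w, l, Matrix.adjugate_fin_two, Matrix.mul_apply, Fin.sum_univ_two] <;> ring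
  have h1 := congrArg (fun g : SL2 => (g : M2))
    (hz _ (Subgroup.commutator_mem_commutator (Subgroup.mem_top w) (Subgroup.mem_top u)))
  have h3 := congrArg (fun g : SL2 => (g : M2))
    (hz _ (Subgroup.commutator_mem_commutator (Subgroup.mem_top w) (Subgroup.mem_top l)))
  replace h1 : ((⁅w, u⁆ : SL2) : M2) * (z : M2) = (z : M2) * ((⁅w, u⁆ : SL2) : M2) := h1
  replace h3 : ((⁅w, l⁆ : SL2) : M2) * (z : M2) = (z : M2) * ((⁅w, l⁆ : SL2) : M2) := h3
  rw [e1] at h1
  rw [e2] at h3
  have a00 := congrFun (congrFun h1 0) 0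
  have a01 := congrFun (congrFun h1 0) 1
  have b01 := congrFun (congrFun h3 0) 1
  simp [Matrix.mul_apply, Fin.sum_univ_two] at a00 a01 b01
  have h01 : (z : M2) 0 1 = 0 :=
    (mul_eq_zero.1 (show (2 : F) * (z : M2) 0 1 = 0 by linear_combination b01 - a01)).resolve_left h2
  have h10 : (z : M2) 1 0 = 0 := a00.trans h01
  have hd : (z : M2) 0 0 = (z : M2) 1 1 := by linear_combination a01 + h01
  rw [Subgroup.mem_center_iff]
  intro g
  refine Subtype.ext ?_
  show (g : M2) * (_ : M2) = (_ : M2) * (g : M2)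
  ext i j
  fin_cases i <;> fin_cases j <;> simp [Matrix.mul_apply, Fin.sum_univ_two, h01, h10, hd] <;> ring

theorem derived_eq_top (hq : 3 < Fintype.card F) : commutator SL2 = ⊤ := by
  classical
  obtain ⟨a, ha⟩ : ∃ a : F, a ∉ ({0, 1, -1} : Finset F) := by
    by_contra h
    push Not at h
    have := Finset.card_le_card (fun x _ => h x : (Finset.univ : Finset F) ⊆ {0, 1, -1})
    rw [Finset.card_univ] at this
    have h3 : ({0, 1, -1} : Finset F).card ≤ 3 := Finset.card_le_three
    omega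
  simp only [Finset.mem_insert, Finset.mem_singleton, not_or] at ha
  refine SL2.commutator_eq_top ha.1 fun e => ?_
  rcases sq_eq_one_iff.1 e with h | h
  · exact ha.2.1 h
  · exact ha.2.2 h

theorem small_cases (hF : Fintype.card F = p ^ n) (hq : Fintype.card F ≤ 3) :
    n = 1 ∧ Fintype.card F = p ∧ (p = 2 ∨ p = 3) := by
  have h1 := Fintype.one_lt_card (α := F)
  have hp2 := hp.out.two_le
  rcases n with _ | _ | n
  · rw [pow_zero] at hF; omega
  · rw [pow_one] at hF
    exact ⟨rfl, hF, by omega⟩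
  · have : 2 ^ 2 ≤ p ^ (n + 1 + 1) :=
      (Nat.pow_le_pow_left hp2 2).trans (Nat.pow_le_pow_right hp.out.pos (by omega))
    rw [hF] at hq
    exact absurd (le_trans this hq) (by norm_num)

/-- A normal subgroup with `p`-group quotient contains the derived group. -/
theorem derived_le_of_pQuotient (hF : Fintype.card F = p ^ n) {K : Subgroup SL2} [K.Normal]
    (hK : ∀ x : SL2, ∃ k : ℕ, x ^ p ^ k ∈ K) : commutator SL2 ≤ K := by
  have hpq : IsPGroup p (SL2 ⧸ K) := fun y => by
    obtain ⟨x, rfl⟩ := QuotientGroup.mk_surjective y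
    obtain ⟨k, hk⟩ := hK x
    exact ⟨k, by rw [← QuotientGroup.mk_pow, QuotientGroup.eq_one_iff]; exact hk⟩
  by_cases hq : 3 < Fintype.card F
  · haveI := hpq.isNilpotent
    rw [derived_eq_top hq, top_le_iff]
    by_contra hne
    haveI : Nontrivial (SL2 ⧸ K) := QuotientGroup.nontrivial_iff.2 hne
    refine (Group.IsSolvable.commutator_lt_top_of_nontrivial (SL2 ⧸ K)).ne ?_
    rw [_root_.commutator_def, ← Subgroup.map_top_of_surjective _ (QuotientGroup.mk'_surjective K),
      ← Subgroup.map_commutator, ← _root_.commutator_def, derived_eq_top hq]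
  · obtain ⟨-, hqp, -⟩ := small_cases hF (by omega)
    obtain ⟨k, hk⟩ := hpq.exists_card_eq
    have hk1 : k ≤ 1 := by
      by_contra h
      have h2 : p ^ 2 ∣ Nat.card SL2 := (pow_dvd_pow p (show 2 ≤ k by omega)).trans (hk ▸ K.card_quotient_dvd_card)
      have h3 := card_sylow hF (default : Sylow p SL2)
      rw [← hF, hqp, Sylow.card_eq_multiplicity] at h3
      have h4 := (hp.out.pow_dvd_iff_le_factorization Nat.card_pos.ne').1 h2
      have h5 : (Nat.card SL2).factorization p = 1 := by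
        exact Nat.pow_right_injective hp.out.two_le (h3.trans (pow_one p).symm)
      omega
    rw [← Subgroup.Normal.quotient_commutative_iff_commutator_le]
    haveI : IsCyclic (SL2 ⧸ K) := by
      rcases (show k = 0 ∨ k = 1 by omega) with rfl | rfl
      · rw [pow_zero] at hk
        haveI := (Nat.card_eq_one_iff_unique.1 hk).1
        exact isCyclic_of_subsingleton
      · rw [pow_one] at hk
        exact isCyclic_of_prime_card hk
    exact IsCyclic.isMulCommutative

theorem card_derived_two (hF : Fintype.card F = 2) : Nat.card ↥(commutator SL2) = 3 := by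
  rw [H51.card_derived_sl2_congr (ZMod.ringEquivOfPrime F Nat.prime_two hF).symm]
  set D := commutator (SpecialLinearGroup (Fin 2) (ZMod 2)) with hD
  have hle : Nat.card ↥D ≤ Nat.card {x : SpecialLinearGroup (Fin 2) (ZMod 2) // x ^ 3 = 1} :=
    Nat.card_le_card_of_injective (fun g => ⟨g, (H51.sl2_two_derived g.2 g.2).1⟩)
      fun a b h => Subtype.ext (congrArg Subtype.val h :)
  have h3 : Nat.card {x : SpecialLinearGroup (Fin 2) (ZMod 2) // x ^ 3 = 1} = 3 := by
    rw [Nat.card_eq_fintype_card]; decide +kernel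
  obtain ⟨g, h, hgh⟩ : ∃ g h : SpecialLinearGroup (Fin 2) (ZMod 2), g * h * g⁻¹ * h⁻¹ ≠ 1 := by decide +kernel
  have hm : g * h * g⁻¹ * h⁻¹ ∈ D := by
    rw [← commutatorElement_def]
    exact Subgroup.commutator_mem_commutator (Subgroup.mem_top _) (Subgroup.mem_top _)
  have ho : orderOf (g * h * g⁻¹ * h⁻¹) = 3 :=
    orderOf_eq_prime (H51.sl2_two_derived hm hm).1 hgh
  have hdvd : 3 ∣ Nat.card ↥D := by
    have := orderOf_dvd_natCard (⟨_, hm⟩ : ↥D)
    rwa [Subgroup.orderOf_mk, ho] at this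
  have hpos : 0 < Nat.card ↥D := Nat.card_pos
  omega

theorem card_derived_three (hF : Fintype.card F = 3) : Nat.card ↥(commutator SL2) = 8 := by
  rw [H51.card_derived_sl2_congr (ZMod.ringEquivOfPrime F Nat.prime_three hF).symm]
  exact Cfsg.Agent.S2427.result.2.2.1

theorem derived_congr_three (hF : Fintype.card F = 3) :
    Nonempty (↥(commutator SL2) ≃* ↥(commutator (SpecialLinearGroup (Fin 2) (ZMod 3)))) := by
  let σ : F ≃+* ZMod 3 := (ZMod.ringEquivOfPrime F Nat.prime_three hF).symm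
  let μ : SL2 →* SpecialLinearGroup (Fin 2) (ZMod 3) := SpecialLinearGroup.map σ.toRingHom
  have hμ : Function.Surjective μ := fun g => by
    refine ⟨SpecialLinearGroup.map σ.symm.toRingHom g, Subtype.ext ?_⟩
    ext i j
    exact σ.apply_symm_apply _
  have hinj : Function.Injective μ := fun a b hab => by
    refine Subtype.ext ?_
    ext i j
    exact σ.injective (congrArg (fun g : SpecialLinearGroup (Fin 2) (ZMod 3) =>
      (g : Matrix (Fin 2) (Fin 2) (ZMod 3)) i j) hab)
  have hmap : (commutator SL2).map μ = commutator (SpecialLinearGroup (Fin 2) (ZMod 3)) := by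
    rw [_root_.commutator_def, Subgroup.map_commutator, Subgroup.map_top_of_surjective _ hμ,
      _root_.commutator_def]
  exact ⟨(Subgroup.equivMapOfInjective _ μ hinj).trans (MulEquiv.subgroupCongr hmap)⟩

/-- In characteristic two there is no element of order four. -/
theorem sq_of_pow_four (hF : Fintype.card F = 2 ^ n) {x : SL2} (hx : x ^ 4 = 1) : x ^ 2 = 1 := by
  haveI : Fact (Nat.Prime 2) := ⟨Nat.prime_two⟩
  have h : IsPGroup 2 ↥(Subgroup.zpowers x) := by
    rintro ⟨_, k, rfl⟩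
    refine ⟨2, Subtype.ext ?_⟩
    show (x ^ k) ^ (2 ^ 2) = 1
    rw [← zpow_natCast, ← _root_.zpow_mul, mul_comm, _root_.zpow_mul, zpow_natCast]
    norm_num [hx]
  obtain ⟨P, hP⟩ := h.exists_le_sylow
  exact sylow_pow hF P (hP (Subgroup.mem_zpowers x))

/-- An alternating group of degree at least six has an element of order four. -/
theorem alt_order_four {N : ℕ} (hN : 6 ≤ N) :
    ∃ s : ↥(alternatingGroup (Fin N)), s ^ 4 = 1 ∧ s ^ 2 ≠ 1 := by
  set f : Fin 6 ↪ Fin N := Fin.castLEEmb hN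
  set φ := Equiv.Perm.extendDomainHom f.toEquivRange
  obtain ⟨e, he1, he2, he3⟩ : ∃ e : Equiv.Perm (Fin 6), Equiv.Perm.sign e = 1 ∧ e ^ 4 = 1 ∧ e ^ 2 ≠ 1 :=
    ⟨Equiv.swap 0 1 * Equiv.swap 1 2 * Equiv.swap 2 3 * Equiv.swap 4 5, by decide +kernel,
      by decide +kernel, by decide +kernel⟩
  refine ⟨⟨φ e, ?_⟩, Subtype.ext ?_, fun h => he3 ?_⟩
  · rw [Equiv.Perm.mem_alternatingGroup]
    show Equiv.Perm.sign (e.extendDomain f.toEquivRange) = 1
    rw [Equiv.Perm.sign_extendDomain, he1]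
  · show φ e ^ 4 = 1
    rw [← map_pow, he2, map_one]
  · refine Equiv.Perm.extendDomainHom_injective f.toEquivRange ?_
    rw [map_pow, map_one]
    exact congrArg Subtype.val h

end Cfsg.Agent.H21.Push.SL
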