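import Cfsg.Agent.H34.Push.Basic
import Cfsg.Agent.H21.Push.SLFacts
import Cfsg.Agent.H51.SubnormalBlockTools
import Cfsg.Agent.H22.PResidual
import Mathlib

/-!
Linear components in pushing up: the subgroups `R` over the Baumann subgroup, their residuals, and the images of
these in the two-dimensional representation.
-/

set_option autoImplicit false
set_option linter.unusedSectionVars false
set_option linter.style.haveILetI false

open scoped commutatorElement

namespace Cfsg.Agent.H21.Push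

open Subgroup Cfsg.Agent Cfsg.Agent.H34.Push

universe u

section General

variable {G : Type u} [Group G]

/-- A commutator of two generated subgroups lies in a subgroup normalised by both once it does on generators. -/
theorem comm_le_of_gen {K : Subgroup G} {X Y : Set G} (hX : ∀ x ∈ X, x ∈ normalizer (K : Set G))
    (hY : ∀ y ∈ Y, y ∈ normalizer (K : Set G)) (h : ∀ x ∈ X, ∀ y ∈ Y, ⁅x, y⁆ ∈ K) :
    ⁅closure X, closure Y⁆ ≤ K := by
  have hXN : closure X ≤ normalizer (K : Set G) := (closure_le _).2 hX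
  have hYN : closure Y ≤ normalizer (K : Set G) := (closure_le _).2 hY
  have h1 : ∀ x ∈ X, ∀ y ∈ closure Y, ⁅x, y⁆ ∈ K := by
    intro x hx y hy
    induction hy using closure_induction with
    | mem y hy => exact h x hx y hy
    | one => simp
    | mul a b ha hb iha ihb =>
      rw [show ⁅x, a * b⁆ = ⁅x, a⁆ * (a * ⁅x, b⁆ * a⁻¹) from by simp only [commutatorElement_def]; group]
      exact mul_mem iha ((mem_normalizer_iff.1 (hYN ha) _).1 ihb)
    | inv a ha iha =>
      rw [show ⁅x, a⁻¹⁆ = a⁻¹ * ⁅x, a⁆⁻¹ * a from by simp only [commutatorElement_def]; group]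
      exact (mem_normalizer_iff''.1 (hYN ha) _).1 (inv_mem iha)
  rw [commutator_le]
  intro x hx
  induction hx using closure_induction with
  | mem x hx => exact h1 x hx
  | one => intro y _; simp
  | mul a b ha hb iha ihb =>
    intro y hy
    rw [show ⁅a * b, y⁆ = a * ⁅b, y⁆ * a⁻¹ * ⁅a, y⁆ from by simp only [commutatorElement_def]; group]
    exact mul_mem ((mem_normalizer_iff.1 (hXN ha) _).1 (ihb y hy)) (iha y hy)
  | inv a ha iha =>
    intro y hy
    rw [show ⁅a⁻¹, y⁆ = a⁻¹ * ⁅a, y⁆⁻¹ * a from by simp only [commutatorElement_def]; group]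
    exact (mem_normalizer_iff''.1 (hXN ha) _).1 (inv_mem (iha y hy))

variable [Finite G] {p : ℕ} [Fact p.Prime]

/-- A Sylow subgroup meets a subgroup normalised by a normal overgroup of it in a Sylow subgroup. -/
theorem exists_sylow_inf (T : Sylow p G) {N E : Subgroup G} [N.Normal] (hEN : E ≤ N)
    (hn : N ≤ normalizer (E : Set G)) :
    ∃ P : Sylow p ↥E, (P : Subgroup ↥E) = (T : Subgroup G).subgroupOf E := by
  have hN : IsPGroup p ((T : Subgroup G).subgroupOf N) :=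
    T.isPGroup'.comap_of_injective N.subtype N.subtype_injective
  have hNi : ¬ p ∣ ((T : Subgroup G).subgroupOf N).index := H22.sylow_not_dvd_relIndex_normal T N
  haveI : (E.subgroupOf N).Normal := normal_subgroupOf_of_le_normalizer hn
  have h := H22.sylow_not_dvd_relIndex_normal (hN.toSylow hNi) (E.subgroupOf N)
  have h' : ¬ p ∣ ((T : Subgroup G).subgroupOf N).relIndex (E.subgroupOf N) := h
  rw [relIndex_subgroupOf hEN] at h'
  exact ⟨(T.isPGroup'.comap_of_injective E.subtype E.subtype_injective).toSylow h', rfl⟩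

/-- Elements of order prime to `p` of `E B`, `B` a `p`-group, lie in `E`. -/
theorem mem_left_of_coprime {E B : Subgroup G} (hB : IsPGroup p B) (hn : B ≤ normalizer (E : Set G)) {x : G}
    (hx : x ∈ E ⊔ B) (hc : (orderOf x).Coprime p) : x ∈ E := by
  haveI : (E.subgroupOf (E ⊔ B)).Normal :=
    normal_subgroupOf_of_le_normalizer (sup_le le_normalizer hn)
  have hx' : x ∈ (↑(E ⊔ B) : Set G) := hx
  rw [coe_mul_of_right_le_normalizer_left E B hn] at hx'
  obtain ⟨e, he, b, hb, hxe⟩ := hx'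
  set f := QuotientGroup.mk' (E.subgroupOf (E ⊔ B))
  have heq : f ⟨x, hx⟩ = f ⟨b, mem_sup_right hb⟩ := by
    have : (⟨x, hx⟩ : ↥(E ⊔ B)) = ⟨e, mem_sup_left he⟩ * ⟨b, mem_sup_right hb⟩ := Subtype.ext hxe.symm
    rw [this, map_mul, show f ⟨e, mem_sup_left he⟩ = 1 from (QuotientGroup.eq_one_iff _).2 he, one_mul]
  obtain ⟨k, hk⟩ := hB ⟨b, hb⟩
  have hk' : b ^ p ^ k = 1 := congrArg Subtype.val hk
  have h1 : x ^ p ^ k ∈ E := by
    have : f ((⟨x, hx⟩ : ↥(E ⊔ B)) ^ p ^ k) = 1 := by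
      rw [map_pow, heq, ← map_pow,
        show (⟨b, mem_sup_right hb⟩ : ↥(E ⊔ B)) ^ p ^ k = 1 from Subtype.ext hk', map_one]
    simpa [Subgroup.mem_subgroupOf] using (QuotientGroup.eq_one_iff ((⟨x, hx⟩ : ↥(E ⊔ B)) ^ p ^ k)).1 this
  have h2 : x ^ orderOf x ∈ E := by rw [pow_orderOf_eq_one]; exact one_mem _
  have hmem : (⟨x, hx⟩ : ↥(E ⊔ B)) ∈ E.subgroupOf (E ⊔ B) :=
    H51.mem_of_pow_mem_of_coprime ((hc.pow_right k).symm) (show _ from h1) (show _ from h2)
  exact hmem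

end General

variable {G : Type u} [Group G] [Finite G] {p : ℕ} [Fact p.Prime]
variable {F : Type} [Field F] [Fintype F] {n r : ℕ}

/-- The hypotheses on linear components with their rank one subgroups. -/
structure Setting (T : Sylow p G) (M : Subgroup G) (E R : Fin r → Subgroup G) (F : Type) [Field F] [Fintype F]
    (n : ℕ) : Prop where
  ctx : Ctx T M
  lin : LinCase T E F n
  core : Core T E
  hQ : cee p G = Cfsg.pCore p G
  hS : (T : Subgroup G) ⊓ (⨆ i, E i) = Cfsg.baumannSubgroupOf p (T : Subgroup G) ⊔ Cfsg.pCore p G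
  hR : ∀ i, RankSub T F n (R i) ∧ R i ⊔ cee p G = E i ⊔ Cfsg.baumannSubgroupOf p (T : Subgroup G) ⊔ cee p G
  hD : ∀ i, RankBlock T F n (R i)

/-- The other components. -/
def rest (E : Fin r → Subgroup G) (i : Fin r) : Subgroup G := ⨆ j ∈ {j | j ≠ i}, E j

theorem le_rest {E : Fin r → Subgroup G} {i j : Fin r} (h : j ≠ i) : E j ≤ rest E i :=
  le_iSup₂ (f := fun (j : Fin r) (_ : j ∈ {j | j ≠ i}) => E j) j h

variable {T : Sylow p G} {M : Subgroup G} {E R : Fin r → Subgroup G}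

local notation "Q" => Cfsg.pCore p G
local notation "BT" => Cfsg.baumannSubgroupOf p (T : Subgroup G)
local notation "LT" => ell p (T : Subgroup G)

namespace Setting

variable (s : Setting T M E R F n)
include s

theorem Q_le (i : Fin r) : Q ≤ E i := s.hQ ▸ s.lin.cent_le i

theorem N_normal : (⨆ i, E i).Normal := by
  rw [← normalizer_eq_top_iff, ← top_le_iff, ← s.lin.top]
  refine sup_le le_normalizer fun t ht => H74.mem_normalizer_of_conj_mem fun x hx => ?_
  have hle : (⨆ i, E i) ≤ (⨆ i, E i).comap (MulAut.conj t).toMonoidHom := iSup_le fun i => by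
    obtain ⟨j, hj⟩ := s.lin.perm t ht i
    rw [← map_le_iff_le_comap, hj]
    exact le_iSup E j
  exact hle hx

theorem E_norm (i j : Fin r) : E j ≤ normalizer (E i : Set G) := by
  rcases eq_or_ne j i with rfl | h
  · exact le_normalizer
  refine fun f hf => H74.mem_normalizer_of_conj_mem fun e he => ?_
  rw [show f * e * f⁻¹ = ⁅f, e⁆ * e from by simp [commutatorElement_def]]
  exact mul_mem (s.lin.cent_le i (s.lin.comm j i h (commutator_mem_commutator hf he))) he

theorem N_norm (i : Fin r) : (⨆ j, E j) ≤ normalizer (E i : Set G) := iSup_le (s.E_norm i)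

theorem B_le_T : BT ≤ (T : Subgroup G) := inf_le_left

theorem Q_le_T : Q ≤ (T : Subgroup G) := H72.pCore_le_sylow T

theorem exists_sylow (i : Fin r) :
    ∃ P : Sylow p ↥(E i), (P : Subgroup ↥(E i)) = (T : Subgroup G).subgroupOf (E i) :=
  haveI := s.N_normal
  exists_sylow_inf T (le_iSup E i) (s.N_norm i)

theorem rest_comm (i : Fin r) : ⁅rest E i, E i⁆ ≤ Q := by
  haveI : (Q).Normal := H72.pCore_normal p
  rw [show rest E i = closure {x : G | ∃ j, j ≠ i ∧ x ∈ E j} from le_antisymm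
    (iSup₂_le fun j hj x hx => subset_closure ⟨j, hj, hx⟩)
    ((closure_le _).2 fun x ⟨j, hj, hx⟩ => le_rest hj hx), ← closure_eq (E i)]
  refine comm_le_of_gen (fun x _ => le_normalizer_of_normal (mem_top x))
    (fun x _ => le_normalizer_of_normal (mem_top x)) ?_
  rintro x ⟨j, hj, hx⟩ y hy
  exact s.hQ ▸ s.lin.comm j i hj (commutator_mem_commutator hx hy)

theorem rest_inf (i : Fin r) : E i ⊓ (rest E i ⊔ Q) ≤ Q := by
  haveI : (Q).Normal := H72.pCore_normal p
  rintro x ⟨hxE, hx⟩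
  replace hxE : x ∈ E i := hxE
  obtain ⟨k, hk, q, hq, rfl⟩ := mem_sup_of_normal_right.1 hx
  have hkE : k ∈ E i := by simpa using mul_mem hxE (inv_mem (s.Q_le i hq))
  have hkQ : k ∈ Q := s.hQ ▸ s.lin.direct i ⟨hkE, hk⟩
  exact mul_mem hkQ hq

theorem inf_E_le {i j : Fin r} (h : i ≠ j) : E i ⊓ E j ≤ Q :=
  (inf_le_inf le_rfl ((le_rest (Ne.symm h)).trans le_sup_left)).trans (s.rest_inf i)

/-- `T ∩ E_i` is the part of the Baumann subgroup times `O_p(G)`. -/
theorem T_inf_E (i : Fin r) : (T : Subgroup G) ⊓ E i = (BT ⊓ E i) ⊔ Q := by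
  haveI : (Q).Normal := H72.pCore_normal p
  refine le_antisymm ?_ (sup_le (inf_le_inf s.B_le_T le_rfl) (le_inf s.Q_le_T (s.Q_le i)))
  rintro x ⟨hxT, hxE⟩
  replace hxE : x ∈ E i := hxE
  have hx : x ∈ (T : Subgroup G) ⊓ ⨆ j, E j := ⟨hxT, le_iSup E i hxE⟩
  rw [s.hS] at hx
  obtain ⟨b, hb, q, hq, rfl⟩ := mem_sup_of_normal_right.1 hx
  have hbE : b ∈ E i := by simpa using mul_mem hxE (inv_mem (s.Q_le i hq))
  exact mul_mem (mem_sup_left ⟨hb, hbE⟩) (mem_sup_right hq)

theorem L_normal : (LT).Normal := normalClosure_normal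

theorem B_le_L : BT ≤ LT := subset_normalClosure

theorem P_le_B : pee p (T : Subgroup G) ≤ BT := s.core.P_eq ▸ inf_le_right

theorem L_inf_Q {x : G} (hL : x ∈ LT) (hQ : x ∈ Q) : x ∈ BT :=
  s.P_le_B (s.core.L_core ▸ (⟨hL, hQ⟩ : x ∈ LT ⊓ Q))

/-- `L ∩ T ∩ ⟨E⟩ = B(T)`. -/
theorem L_inf_S : LT ⊓ ((T : Subgroup G) ⊓ ⨆ i, E i) = BT := by
  haveI : (Q).Normal := H72.pCore_normal p
  refine le_antisymm ?_ (le_inf s.B_le_L (le_inf s.B_le_T s.core.B_le))
  rintro x ⟨hxL, hx⟩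
  rw [s.hS] at hx
  obtain ⟨b, hb, q, hq, rfl⟩ := mem_sup_of_normal_right.1 hx
  exact mul_mem hb (s.L_inf_Q (by simpa using mul_mem (inv_mem (s.B_le_L hb)) hxL) hq)

theorem R_sup (i : Fin r) : R i ⊔ Q = E i ⊔ BT := by
  have h := (s.hR i).2
  rw [s.hQ] at h
  rw [h]
  exact le_antisymm (sup_le le_rfl ((s.Q_le i).trans le_sup_left)) le_sup_left

theorem R_eq (i : Fin r) : LT ⊓ (E i ⊔ BT) = R i := by
  haveI : (Q).Normal := H72.pCore_normal p
  refine le_antisymm ?_ (le_inf (s.hR i).1.le_L (le_sup_left.trans (s.R_sup i).le))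
  rintro x ⟨hxL, hx⟩
  rw [← s.R_sup i] at hx
  obtain ⟨a, ha, q, hq, rfl⟩ := mem_sup_of_normal_right.1 hx
  exact mul_mem ha ((s.hR i).1.B_le (s.L_inf_Q (by simpa using mul_mem (inv_mem ((s.hR i).1.le_L ha)) hxL) hq))

theorem Li_le_R (i : Fin r) : LT ⊓ E i ≤ R i := (inf_le_inf le_rfl le_sup_left).trans (s.R_eq i).le

theorem coprime_mem_Li (i : Fin r) {x : G} (hx : x ∈ R i) (hc : (orderOf x).Coprime p) : x ∈ LT ⊓ E i :=
  ⟨(s.hR i).1.le_L hx, mem_left_of_coprime (H51.baumann_isPGroup T) (s.core.B_le.trans (s.N_norm i))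
    (le_sup_left.trans (s.R_sup i).le hx) hc⟩

/-- Modulo `O_p(G)` every element of `E_i` comes from `L ∩ E_i`. -/
theorem exists_Li (i : Fin r) {e : G} (he : e ∈ E i) : ∃ l ∈ LT ⊓ E i, l⁻¹ * e ∈ Q := by
  haveI : (Q).Normal := H72.pCore_normal p
  obtain ⟨a, ha, q, hq, rfl⟩ := mem_sup_of_normal_right.1 ((s.R_sup i).ge (mem_sup_left he))
  exact ⟨a, ⟨(s.hR i).1.le_L ha, by simpa using mul_mem he (inv_mem (s.Q_le i hq))⟩, by simpa using hq⟩

theorem res_eq (i : Fin r) : Cfsg.pResidualOf p (R i) = Cfsg.pResidualOf p (LT ⊓ E i) := by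
  refine (H72.pResidual_map_eq (p := p) (R i)).trans (Eq.trans ?_ (H72.pResidual_map_eq (p := p) (LT ⊓ E i)).symm)
  congr 1
  ext x
  exact ⟨fun ⟨h1, h2⟩ => ⟨s.coprime_mem_Li i h1 h2, h2⟩, fun ⟨h1, h2⟩ => ⟨s.Li_le_R i h1, h2⟩⟩

theorem res_le (i : Fin r) : Cfsg.pResidualOf p (R i) ≤ LT ⊓ E i := (s.res_eq i).le.trans (map_subtype_le _)

theorem res_le_E (i : Fin r) : Cfsg.pResidualOf p (R i) ≤ E i := (s.res_le i).trans inf_le_right

theorem res_le_L (i : Fin r) : Cfsg.pResidualOf p (R i) ≤ LT := (s.res_le i).trans inf_le_left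

theorem res_norm (i : Fin r) : LT ≤ normalizer (Cfsg.pResidualOf p (R i) : Set G) := by
  haveI := s.L_normal
  rw [s.res_eq i]
  exact le_trans (fun x hx => inf_normalizer_le_normalizer_inf
    ⟨le_normalizer hx, s.N_norm i (s.core.L_le hx)⟩) (H72.normalizer_le_normalizer_pResidual _)

theorem res_conj {t : G} {i j : Fin r} (hj : (E i).map (MulAut.conj t).toMonoidHom = E j) :
    (Cfsg.pResidualOf p (R i)).map (MulAut.conj t).toMonoidHom = Cfsg.pResidualOf p (R j) := by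
  haveI := s.L_normal
  rw [s.res_eq i, s.res_eq j, H51.map_pResidualOf (MulAut.conj t), Subgroup.map_inf _ _ _ (MulAut.conj t).injective,
    hj]
  congr 2
  exact mem_normalizer_iff_map_conj_eq.1 (le_normalizer_of_normal (mem_top t))

theorem res_inf_Q (i : Fin r) :
    Cfsg.pResidualOf p (R i) ⊓ Q = Cfsg.pCoreOf p (Cfsg.pResidualOf p (R i)) := by
  haveI : (Q).Normal := H72.pCore_normal p
  refine le_antisymm (H72.le_pCoreOf inf_le_left ?_ ((H72.pCore_isPGroup p).to_le inf_le_right))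
    (le_inf (H72.pCoreOf_le p _) ((s.hD i).core_le.trans inf_le_left))
  exact fun x hx => inf_normalizer_le_normalizer_inf ⟨le_normalizer hx, le_normalizer_of_normal (mem_top x)⟩

theorem rep_ker {i : Fin r} {ρ : ↥(E i) →* Matrix.SpecialLinearGroup (Fin 2) F}
    {ψ : ↥⁅vee p G, E i⁆ →* Multiplicative (Fin 2 → F)} (hρ : LinRep p (E i) ρ ψ) (e : ↥(E i)) :
    ρ e = 1 ↔ (e : G) ∈ Q := by
  rw [← s.hQ]; exact hρ.ker e

/-- The residual maps onto the derived group with kernel its core. -/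
theorem rep_res {i : Fin r} {ρ : ↥(E i) →* Matrix.SpecialLinearGroup (Fin 2) F}
    {ψ : ↥⁅vee p G, E i⁆ →* Multiplicative (Fin 2 → F)} (hρ : LinRep p (E i) ρ ψ) :
    (ρ.comp (inclusion (s.res_le_E i))).range = commutator (Matrix.SpecialLinearGroup (Fin 2) F) ∧
      (ρ.comp (inclusion (s.res_le_E i))).ker = Cfsg.pCore p ↥(Cfsg.pResidualOf p (R i)) := by
  set φ := ρ.comp (inclusion (s.res_le_E i)) with hφ
  have hker : φ.ker = Cfsg.pCore p ↥(Cfsg.pResidualOf p (R i)) := by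
    ext x
    rw [MonoidHom.mem_ker, hφ, MonoidHom.comp_apply, s.rep_ker hρ, ← H51.mem_pCoreOf_iff', ← s.res_inf_Q i]
    exact ⟨fun h => ⟨x.2, h⟩, fun h => h.2⟩
  have hlift : ∀ g, ∃ l : ↥(E i), (l : G) ∈ LT ∧ ρ l = g := fun g => by
    obtain ⟨e, rfl⟩ := hρ.surj g
    obtain ⟨l, hl, hq⟩ := s.exists_Li i e.2
    refine ⟨⟨l, hl.2⟩, hl.1, ?_⟩
    have h1 : ρ ((⟨l, hl.2⟩ : ↥(E i))⁻¹ * e) = 1 := (s.rep_ker hρ _).2 hq
    rwa [map_mul, map_inv, inv_mul_eq_one] at h1
  haveI : φ.range.Normal := ⟨by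
    rintro _ ⟨x, rfl⟩ g
    obtain ⟨l, hl, rfl⟩ := hlift g
    refine ⟨⟨(l : G) * x * (l : G)⁻¹, (mem_normalizer_iff.1 (s.res_norm i hl) _).1 x.2⟩, ?_⟩
    rw [hφ, MonoidHom.comp_apply, MonoidHom.comp_apply, ← map_inv, ← map_mul, ← map_mul]
    rfl⟩
  have hle : commutator (Matrix.SpecialLinearGroup (Fin 2) F) ≤ φ.range := by
    refine SL.derived_le_of_pQuotient s.lin.card fun g => ?_
    obtain ⟨l, hl, rfl⟩ := hlift g
    obtain ⟨k, hk⟩ := H72.exists_pow_mem_of_coprime_mem (K := LT ⊓ E i)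
      (C := Cfsg.pResidualOf p (LT ⊓ E i))
      (fun x hx hc => H72.mem_pResidual_map hx hc) (x := (l : G)) ⟨hl, l.2⟩
    rw [← s.res_eq i] at hk
    exact ⟨k, ⟨_, hk⟩, by rw [hφ, MonoidHom.comp_apply, ← map_pow]; rfl⟩
  refine ⟨(eq_of_le_of_card_ge hle (le_of_eq ?_)).symm, hker⟩
  obtain ⟨e⟩ := (s.hD i).iso
  rw [← Nat.card_congr e.toEquiv, ← hker]
  exact (Nat.card_congr (QuotientGroup.quotientKerEquivRange φ).toEquiv).symm

/-- The residual modulo its core, with its image in `SL₂`. -/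
theorem rep_equiv {i : Fin r} {ρ : ↥(E i) →* Matrix.SpecialLinearGroup (Fin 2) F}
    {ψ : ↥⁅vee p G, E i⁆ →* Multiplicative (Fin 2 → F)} (hρ : LinRep p (E i) ρ ψ) :
    ∃ e : ↥(Cfsg.pResidualOf p (R i)) ⧸ Cfsg.pCore p ↥(Cfsg.pResidualOf p (R i)) ≃*
        ↥(commutator (Matrix.SpecialLinearGroup (Fin 2) F)),
      ∀ x, (e (QuotientGroup.mk x) : Matrix.SpecialLinearGroup (Fin 2) F) = ρ (inclusion (s.res_le_E i) x) := by
  obtain ⟨h1, h2⟩ := s.rep_res hρ
  exact ⟨((QuotientGroup.quotientMulEquivOfEq h2.symm).trans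
    (QuotientGroup.quotientKerEquivRange _)).trans (MulEquiv.subgroupCongr h1), fun x => rfl⟩

end Setting

end Cfsg.Agent.H21.Push
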