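import Cfsg.Agent.H21.Push.LinBase
import Mathlib

/-!
`C*(G,T)` against the linear components: it meets each block in the normaliser of the Sylow subgroup of the
component.
-/

set_option autoImplicit false
set_option linter.unusedSectionVars false
set_option linter.style.haveILetI false

open scoped commutatorElement

namespace Cfsg.Agent.H21.Push.Setting

open Subgroup Cfsg.Agent Cfsg.Agent.H34.Push

universe u

variable {G : Type u} [Group G] [Finite G] {p : ℕ} [Fact p.Prime]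
variable {F : Type} [Field F] [Fintype F] {n r : ℕ}
variable {T : Sylow p G} {M : Subgroup G} {E R : Fin r → Subgroup G}

local notation "Q" => Cfsg.pCore p G
local notation "BT" => Cfsg.baumannSubgroupOf p (T : Subgroup G)
local notation "LT" => ell p (T : Subgroup G)
local notation "CS" => Cfsg.cStarOf p (T : Subgroup G)

variable (s : Setting T M E R F n)
include s

theorem T_le_star : (T : Subgroup G) ≤ CS := Ctx.T_le_cent_omega.trans le_sup_left

/-- The elements of `C*` in `⟨E⟩` normalise every `T ∩ E_i`. -/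
theorem star_normalizes {g : G} (hg : g ∈ CS) (hgN : g ∈ ⨆ j, E j) (i : Fin r) :
    g ∈ normalizer (((T : Subgroup G) ⊓ E i : Subgroup G) : Set G) := by
  by_contra hne
  obtain ⟨P, hP⟩ := s.exists_sylow i
  obtain ⟨ρ, ψ, hρ⟩ := s.lin.rep i
  have hgE : g ∈ normalizer (E i : Set G) := s.N_norm i hgN
  obtain ⟨x, hx, hxn⟩ : ∃ x ∈ (T : Subgroup G) ⊓ E i, g * x * g⁻¹ ∉ (T : Subgroup G) := by
    by_contra hcon
    push Not at hcon
    exact hne (H74.mem_normalizer_of_conj_mem fun x hx => ⟨hcon x hx, (mem_normalizer_iff.1 hgE x).1 hx.2⟩)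
  -- the conjugate Sylow subgroup of `E_i`
  have hconj : ∀ y : ↥(E i), g * (y : G) * g⁻¹ ∈ E i := fun y => (mem_normalizer_iff.1 hgE _).1 y.2
  let α : ↥(E i) →* ↥(E i) := MonoidHom.mk' (fun y => ⟨g * y * g⁻¹, hconj y⟩) fun a b => Subtype.ext (by simp)
  have hα : Function.Surjective α := fun y =>
    ⟨⟨g⁻¹ * y * g, (mem_normalizer_iff''.1 hgE _).1 y.2⟩, Subtype.ext (show g * (g⁻¹ * y * g) * g⁻¹ = (y : G) by group)⟩
  set K := (CS ⊓ E i).subgroupOf (E i) with hK
  have hPK : (P : Subgroup ↥(E i)) ≤ K := by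
    rw [hP]
    exact fun y hy => ⟨s.T_le_star hy, y.2⟩
  have hPK' : ((P.mapSurjective hα : Sylow p _) : Subgroup ↥(E i)) ≤ K := by
    rw [Sylow.coe_mapSurjective, map_le_iff_le_comap, hP]
    exact fun y hy => ⟨show g * (y : G) * g⁻¹ ∈ CS from mul_mem (mul_mem hg (s.T_le_star hy)) (inv_mem hg), hconj y⟩
  have hdiff : (P.mapSurjective hρ.surj : Sylow p _) ≠ (P.mapSurjective hα).mapSurjective hρ.surj := by
    intro e
    have h1 : ρ (α ⟨x, hx.2⟩) ∈ ((P.mapSurjective hρ.surj : Sylow p _) :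
        Subgroup (Matrix.SpecialLinearGroup (Fin 2) F)) := by
      rw [e, Sylow.coe_mapSurjective, Sylow.coe_mapSurjective]
      exact mem_map_of_mem _ (mem_map_of_mem _ (by rw [hP]; exact hx.1))
    rw [Sylow.coe_mapSurjective] at h1
    obtain ⟨z, hz, hz'⟩ := h1
    have hzT : (z : G) ∈ (T : Subgroup G) := hP.le hz
    have h2 : ((z⁻¹ * α ⟨x, hx.2⟩ : ↥(E i)) : G) ∈ Q :=
      (s.rep_ker hρ _).1 (by rw [map_mul, map_inv, hz', inv_mul_cancel])
    refine hxn ?_
    have := mul_mem hzT (s.Q_le_T h2)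
    rwa [coe_mul, coe_inv, mul_inv_cancel_left] at this
  have htop : K.map ρ = ⊤ := by
    haveI : CharP F p := H72.charP_of_card s.lin.card
    refine top_le_iff.1 (le_of_eq_of_le (H1.sylowSL_sup_eq_top p _ _ hdiff).symm ?_)
    rw [Sylow.coe_mapSurjective, Sylow.coe_mapSurjective]
    exact sup_le (map_mono hPK) (map_mono hPK')
  have hEi : E i ≤ CS := by
    intro e he
    obtain ⟨z, hz, hze⟩ : ρ ⟨e, he⟩ ∈ K.map ρ := htop ▸ mem_top _
    have h2 : ((z⁻¹ * ⟨e, he⟩ : ↥(E i)) : G) ∈ Q :=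
      (s.rep_ker hρ _).1 (by rw [map_mul, map_inv, hze, inv_mul_cancel])
    have := mul_mem (show (z : G) ∈ CS from hz.1) (s.T_le_star (s.Q_le_T h2))
    rwa [coe_mul, coe_inv, mul_inv_cancel_left] at this
  refine s.ctx.cStar_ne_top (top_le_iff.1 (s.lin.top.ge.trans (sup_le (iSup_le fun j => ?_) s.T_le_star)))
  obtain ⟨t, ht, htj⟩ := s.lin.trans i j
  rw [← htj, map_le_iff_le_comap]
  exact fun e he => mul_mem (mul_mem (s.T_le_star ht) (hEi he)) (inv_mem (s.T_le_star ht))

/-- An element of `E_i` normalising `T ∩ E_i` lies in `C*`, if it is in `L`. -/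
theorem mem_star {i : Fin r} {g : G} (hgE : g ∈ E i)
    (hg : g ∈ normalizer (((T : Subgroup G) ⊓ E i : Subgroup G) : Set G)) : g ∈ CS := by
  haveI : (Q).Normal := H72.pCore_normal p
  haveI := s.N_normal
  haveI := s.L_normal
  obtain ⟨P, hP⟩ := s.exists_sylow i
  obtain ⟨ρ, ψ, hρ⟩ := s.lin.rep i
  set N := ⨆ j, E j with hN
  set Pi := (T : Subgroup G) ⊓ E i with hPi
  have hQP : Q ≤ Pi := le_inf s.Q_le_T (s.Q_le i)
  have hrestN : rest E i ≤ N := iSup₂_le fun j _ => le_iSup E j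
  have hrest : rest E i ≤ normalizer (E i : Set G) := hrestN.trans (s.N_norm i)
  have hNeq : N ≤ E i ⊔ rest E i := iSup_le fun j => by
    rcases eq_or_ne j i with rfl | h
    · exact le_sup_left
    · exact (le_rest h).trans le_sup_right
  have hconj : ∀ t ∈ (T : Subgroup G) ⊓ N, g * t * g⁻¹ ∈ (T : Subgroup G) ⊓ N := by
    rintro t ⟨htT, htN⟩
    replace htT : t ∈ (T : Subgroup G) := htT
    replace htN : t ∈ N := htN
    refine ⟨?_, Normal.conj_mem inferInstance t htN g⟩
    have ht' : t ∈ (↑(E i ⊔ rest E i) : Set G) := hNeq htN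
    rw [coe_mul_of_right_le_normalizer_left _ _ hrest] at ht'
    obtain ⟨e, he, k, hk, rfl⟩ := ht'
    replace he : e ∈ E i := he
    replace hk : k ∈ rest E i := hk
    replace htT : e * k ∈ (T : Subgroup G) := htT
    replace htN : e * k ∈ N := htN
    -- the rest centralises `E_i` modulo `O_p(G)`
    have hk' : ∀ x ∈ E i, ⁅k, x⁆ ∈ Q := fun x hx => s.rest_comm i (commutator_mem_commutator hk hx)
    have hkP : k ∈ normalizer (Pi : Set G) := H74.mem_normalizer_of_conj_mem fun x hx => by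
      rw [show k * x * k⁻¹ = ⁅k, x⁆ * x from by simp only [commutatorElement_def]; group]
      exact mul_mem (hQP (hk' x hx.2)) hx
    have heP : e ∈ normalizer (Pi : Set G) := by
      have htP : e * k ∈ normalizer (Pi : Set G) := inf_normalizer_le_normalizer_inf
        ⟨le_normalizer htT, s.N_norm i htN⟩
      simpa using mul_mem htP (inv_mem hkP)
    -- hence `e` is in `T`
    obtain ⟨m, hm⟩ := T.isPGroup' ⟨e * k, htT⟩
    have hm' : (e * k) ^ p ^ m = 1 := congrArg Subtype.val hm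
    have hem : e ^ p ^ m ∈ Q := by
      refine s.rest_inf i ⟨pow_mem he _, ?_⟩
      set f := QuotientGroup.mk' Q
      have hcom : Commute (f e) (f k) := by
        have h1 : f ⁅k, e⁆ = 1 := (QuotientGroup.eq_one_iff _).2 (hk' e he)
        rw [map_commutatorElement, commutatorElement_eq_one_iff_mul_comm] at h1
        exact h1.symm
      have h1 : f (e ^ p ^ m * k ^ p ^ m) = 1 := by
        rw [map_mul, map_pow, map_pow, ← hcom.mul_pow, ← map_mul, ← map_pow, hm', map_one]
      have h2 : e ^ p ^ m * k ^ p ^ m ∈ Q := (QuotientGroup.eq_one_iff _).1 h1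
      have := mul_mem (mem_sup_right h2 : e ^ p ^ m * k ^ p ^ m ∈ rest E i ⊔ Q)
        (inv_mem (mem_sup_left (pow_mem hk (p ^ m)) : k ^ p ^ m ∈ rest E i ⊔ Q))
      rwa [mul_inv_cancel_right] at this
    have hepE : (⟨e, he⟩ : ↥(E i)) ∈ normalizer ((P : Subgroup ↥(E i)) : Set ↥(E i)) := by
      refine H74.mem_normalizer_of_conj_mem fun y hy => ?_
      rw [hP, mem_subgroupOf] at hy ⊢
      exact ((mem_normalizer_iff.1 heP _).1 ⟨hy, y.2⟩).1
    have hpg : IsPGroup p ↥((P : Subgroup ↥(E i)) ⊔ zpowers (⟨e, he⟩ : ↥(E i))) := by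
      refine IsPGroup.to_sup_of_normal_left' P.isPGroup' ?_ (zpowers_le.2 hepE)
      obtain ⟨l, hl⟩ := H72.pCore_isPGroup p ⟨_, hem⟩
      have hl' : (e ^ p ^ m) ^ p ^ l = 1 := congrArg Subtype.val hl
      rintro ⟨_, a, rfl⟩
      refine ⟨m + l, Subtype.ext ?_⟩
      show (((⟨e, he⟩ : ↥(E i)) ^ a) ^ p ^ (m + l)) = 1
      rw [← zpow_natCast, ← zpow_mul, mul_comm, zpow_mul, zpow_natCast, pow_add, pow_mul,
        show ((⟨e, he⟩ : ↥(E i)) ^ p ^ m) ^ p ^ l = 1 from Subtype.ext hl', one_zpow]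
    have heT : e ∈ Pi := by
      have h1 : (⟨e, he⟩ : ↥(E i)) ∈ (P : Subgroup ↥(E i)) := by
        rw [← P.is_maximal' hpg le_sup_left]
        exact mem_sup_right (mem_zpowers _)
      exact ⟨hP.le h1, he⟩
    have hkT : k ∈ (T : Subgroup G) := by simpa using mul_mem (inv_mem (show e ∈ (T : Subgroup G) from heT.1)) htT
    show g * (e * k) * g⁻¹ ∈ (T : Subgroup G)
    rw [show g * (e * k) * g⁻¹ = (g * e * g⁻¹) * (⁅k, g⁆⁻¹ * k) from by simp only [commutatorElement_def]; group]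
    exact mul_mem (show g * e * g⁻¹ ∈ (T : Subgroup G) from ((mem_normalizer_iff.1 hg e).1 heT).1)
      (mul_mem (inv_mem (s.Q_le_T (hk' g hgE))) hkT)
  have hgS : g ∈ normalizer (((T : Subgroup G) ⊓ N : Subgroup G) : Set G) := H74.mem_normalizer_of_conj_mem hconj
  refine s.ctx.normalizer_baumann_le ?_
  rw [← s.L_inf_S]
  exact inf_normalizer_le_normalizer_inf ⟨le_normalizer_of_normal (mem_top g), hgS⟩

theorem star_inf_res (i : Fin r) :
    CS ⊓ Cfsg.pResidualOf p (R i) =
      Cfsg.pResidualOf p (R i) ⊓ normalizer (((T : Subgroup G) ⊓ E i : Subgroup G) : Set G) :=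
  le_antisymm (fun _ hx => ⟨hx.2, s.star_normalizes hx.1 (le_iSup E i (s.res_le_E i hx.2)) i⟩)
    fun _ hx => ⟨s.mem_star (s.res_le_E i hx.1) hx.2, hx.1⟩

theorem star_inf_iSup :
    CS ⊓ (⨆ i, Cfsg.pResidualOf p (R i)) = ⨆ i, (CS ⊓ Cfsg.pResidualOf p (R i)) := by
  classical
  refine le_antisymm ?_ (iSup_le fun i => inf_le_inf le_rfl (le_iSup (fun i => Cfsg.pResidualOf p (R i)) i))
  haveI : (Q).Normal := H72.pCore_normal p
  have key : ∀ S : Finset (Fin r), ∀ x ∈ CS, x ∈ (⨆ i ∈ S, Cfsg.pResidualOf p (R i)) →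
      x ∈ ⨆ i, (CS ⊓ Cfsg.pResidualOf p (R i)) := by
    intro S
    induction S using Finset.induction with
    | empty =>
      intro x _ hx
      simp at hx
      exact hx ▸ one_mem _
    | insert a S ha ih =>
      intro x hxC hx
      rw [Finset.iSup_insert] at hx
      set K := ⨆ i ∈ S, Cfsg.pResidualOf p (R i) with hK
      have hKL : K ≤ LT := iSup₂_le fun i _ => s.res_le_L i
      have hKrest : K ≤ rest E a := iSup₂_le fun i hi =>
        (s.res_le_E i).trans (le_rest fun e => ha (e ▸ hi))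
      have hx' : x ∈ (↑(Cfsg.pResidualOf p (R a) ⊔ K) : Set G) := hx
      rw [coe_mul_of_right_le_normalizer_left _ _ (hKL.trans (s.res_norm a))] at hx'
      obtain ⟨b, hb, k, hk, rfl⟩ := hx'
      have hbE : b ∈ E a := s.res_le_E a hb
      have hN : b * k ∈ ⨆ j, E j :=
        mul_mem (le_iSup E a hbE) (s.core.L_le (hKL hk))
      have hkP : k ∈ normalizer (((T : Subgroup G) ⊓ E a : Subgroup G) : Set G) :=
        H74.mem_normalizer_of_conj_mem fun y hy => by
          rw [show k * y * k⁻¹ = ⁅k, y⁆ * y from by simp only [commutatorElement_def]; group]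
          exact mul_mem (le_inf s.Q_le_T (s.Q_le a) (s.rest_comm a (commutator_mem_commutator (hKrest hk) hy.2))) hy
      have hbP : b ∈ normalizer (((T : Subgroup G) ⊓ E a : Subgroup G) : Set G) := by
        simpa using mul_mem (s.star_normalizes hxC hN a) (inv_mem hkP)
      have hbC : b ∈ CS := s.mem_star hbE hbP
      refine mul_mem (mem_iSup_of_mem a ⟨hbC, hb⟩) (ih k ?_ hk)
      simpa using mul_mem (inv_mem hbC) hxC
  rintro x ⟨hxC, hx⟩
  exact key Finset.univ x hxC (by simpa using hx)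

theorem star_top (hgen : (⨆ i, Cfsg.pResidualOf p (R i)) ⊔ (T : Subgroup G) = ⊤)
    (hperm : ∀ t ∈ (T : Subgroup G), ∀ i, ∃ j,
      (Cfsg.pResidualOf p (R i)).map (MulAut.conj t).toMonoidHom = Cfsg.pResidualOf p (R j)) :
    CS = (CS ⊓ ⨆ i, Cfsg.pResidualOf p (R i)) ⊔ (T : Subgroup G) := by
  set K := ⨆ i, Cfsg.pResidualOf p (R i) with hK
  have hTn : (T : Subgroup G) ≤ normalizer (K : Set G) := fun t ht => H74.mem_normalizer_of_conj_mem fun x hx => by
    have hle : K ≤ K.comap (MulAut.conj t).toMonoidHom := iSup_le fun i => by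
      obtain ⟨j, hj⟩ := hperm t ht i
      rw [← map_le_iff_le_comap, hj]
      exact le_iSup (fun i => Cfsg.pResidualOf p (R i)) j
    exact hle hx
  refine le_antisymm (fun x hx => ?_) (sup_le inf_le_left s.T_le_star)
  have hx' : x ∈ (↑(K ⊔ (T : Subgroup G)) : Set G) := by rw [hgen]; exact mem_top x
  rw [coe_mul_of_right_le_normalizer_left _ _ hTn] at hx'
  obtain ⟨y, hy, t, ht, rfl⟩ := hx'
  exact mul_mem (mem_sup_left ⟨by simpa using mul_mem hx (inv_mem (s.T_le_star ht)), hy⟩) (mem_sup_right ht)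

end Cfsg.Agent.H21.Push.Setting
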