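import Cfsg.Agent.H21.Push.LinComm
import Cfsg.Agent.H21.Push.LinStar
import Mathlib

/-!
The linear blocks of a minimal parabolic group in pushing up and their position relative to `C*(G,T)`.
-/

set_option autoImplicit false
set_option linter.unusedSectionVars false
set_option linter.style.haveILetI false

open scoped commutatorElement

namespace Cfsg.Agent.H21.Push

open Subgroup Cfsg.Agent Cfsg.Agent.H34.Push

universe u

variable {G : Type u} [Group G] [Finite G] {p : ℕ} [Fact p.Prime]
variable {F : Type} [Field F] [Fintype F] {n r : ℕ}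
variable {T : Sylow p G} {M : Subgroup G} {E R : Fin r → Subgroup G}

local notation "Q" => Cfsg.pCore p G
local notation "CS" => Cfsg.cStarOf p (T : Subgroup G)

namespace Setting

variable (s : Setting T M E R F n)
include s

theorem perm (t : G) (ht : t ∈ (T : Subgroup G)) (i : Fin r) :
    ∃ j, (Cfsg.pResidualOf p (R i)).map (MulAut.conj t).toMonoidHom = Cfsg.pResidualOf p (R j) := by
  obtain ⟨j, hj⟩ := s.lin.perm t ht i
  exact ⟨j, s.res_conj hj⟩

theorem gen : (⨆ i, Cfsg.pResidualOf p (R i)) ⊔ (T : Subgroup G) = ⊤ := by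
  rw [← top_le_iff, ← s.lin.top]
  refine sup_le (iSup_le fun i => ?_) le_sup_right
  refine le_trans ((le_sup_left).trans (s.R_sup i).ge) (sup_le ?_ (s.Q_le_T.trans le_sup_right))
  rw [← (s.hD i).sup]
  exact sup_le ((le_iSup (fun i => Cfsg.pResidualOf p (R i)) i).trans le_sup_left) (s.B_le_T.trans le_sup_right)

theorem family : Family T (fun i => Cfsg.pResidualOf p (R i)) where
  block i := (s.hD i).block
  norm := s.res_norm
  le_L := s.res_le_L
  perm := s.perm
  comm _ _ h := s.res_comm h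
  gen := s.gen

/-- The normalisers of `T ∩ B_i` and of `T ∩ E_i` agree on `B_i` when it covers the component. -/
theorem normalizer_eq (i : Fin r) (hq : 3 < Fintype.card F) :
    Cfsg.pResidualOf p (R i) ⊓ normalizer (((T : Subgroup G) ⊓ E i : Subgroup G) : Set G) =
      Cfsg.pResidualOf p (R i) ⊓
        normalizer (((T : Subgroup G) ⊓ Cfsg.pResidualOf p (R i) : Subgroup G) : Set G) := by
  haveI : (Q).Normal := H72.pCore_normal p
  set X := Cfsg.pResidualOf p (R i) with hX
  obtain ⟨ρ, ψ, hρ⟩ := s.lin.rep i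
  refine le_antisymm (fun x hx => ⟨hx.1, ?_⟩) (fun x hx => ⟨hx.1, ?_⟩)
  · have heq : (T : Subgroup G) ⊓ E i = ((T : Subgroup G) ⊓ X) ⊔ Q := by
      refine le_antisymm ?_ (sup_le (inf_le_inf le_rfl (s.res_le_E i)) (le_inf s.Q_le_T (s.Q_le i)))
      rintro y ⟨hyT, hyE⟩
      obtain ⟨b, hb⟩ : ρ ⟨y, hyE⟩ ∈ (ρ.comp (inclusion (s.res_le_E i))).range := by
        rw [(s.rep_res hρ).1, SL.derived_eq_top hq]
        exact mem_top _
      have h2 : (((inclusion (s.res_le_E i) b)⁻¹ * ⟨y, hyE⟩ : ↥(E i)) : G) ∈ Q :=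
        (s.rep_ker hρ _).1 (by rw [map_mul, map_inv, ← hb]; exact inv_mul_cancel _)
      have hbT : (b : G) ∈ (T : Subgroup G) := by
        simpa using mul_mem (show y ∈ (T : Subgroup G) from hyT) (inv_mem (s.Q_le_T h2))
      simpa using mul_mem (mem_sup_left ⟨hbT, b.2⟩ : (b : G) ∈ ((T : Subgroup G) ⊓ X) ⊔ Q) (mem_sup_right h2)
    show x ∈ normalizer (((T : Subgroup G) ⊓ E i : Subgroup G) : Set G)
    rw [heq]
    exact normalizer_inf_normalizer_le_normalizer_sup _ _ ⟨hx.2, le_normalizer_of_normal (mem_top x)⟩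
  · show x ∈ normalizer (((T : Subgroup G) ⊓ X : Subgroup G) : Set G)
    rw [show (T : Subgroup G) ⊓ X = (T : Subgroup G) ⊓ E i ⊓ X from by
      rw [inf_assoc, inf_eq_right.2 (s.res_le_E i)]]
    exact inf_normalizer_le_normalizer_inf ⟨hx.2, le_normalizer hx.1⟩

theorem image_pow (i : Fin r) (hq : Fintype.card F ≤ 3) {ρ : ↥(E i) →* Matrix.SpecialLinearGroup (Fin 2) F}
    {ψ : ↥⁅vee p G, E i⁆ →* Multiplicative (Fin 2 → F)} (hρ : LinRep p (E i) ρ ψ) {e : ↥(E i)}
    (he : (e : G) ∈ normalizer (((T : Subgroup G) ⊓ E i : Subgroup G) : Set G)) : ρ e ^ (2 * p) = 1 := by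
  obtain ⟨P, hP⟩ := s.exists_sylow i
  refine SL.pow_of_normalizes s.lin.card hq (P.mapSurjective hρ.surj) ?_
  rw [Sylow.coe_mapSurjective]
  refine H74.mem_normalizer_of_conj_mem ?_
  rintro _ ⟨y, hy, rfl⟩
  refine ⟨e * y * e⁻¹, ?_, by simp⟩
  have hy' : (y : G) ∈ (T : Subgroup G) := hP.le hy
  exact hP.ge ((mem_normalizer_iff.1 he _).1 ⟨hy', y.2⟩).1

theorem mem_star_of_center {i : Fin r} {ρ : ↥(E i) →* Matrix.SpecialLinearGroup (Fin 2) F}
    {ψ : ↥⁅vee p G, E i⁆ →* Multiplicative (Fin 2 → F)} (hρ : LinRep p (E i) ρ ψ) {e : ↥(E i)}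
    (he : ρ e ∈ Subgroup.center (Matrix.SpecialLinearGroup (Fin 2) F)) : (e : G) ∈ CS := by
  refine s.mem_star e.2 (H74.mem_normalizer_of_conj_mem fun y hy => ?_)
  have h1 : ρ (e * ⟨y, hy.2⟩ * e⁻¹ * (⟨y, hy.2⟩ : ↥(E i))⁻¹) = 1 := by
    simp only [map_mul, map_inv]
    rw [← Subgroup.mem_center_iff.1 he]
    group
  have h2 : (e : G) * y * (e : G)⁻¹ * y⁻¹ ∈ Q := (s.rep_ker hρ _).1 h1
  have := mul_mem (le_inf s.Q_le_T (s.Q_le i) h2 : (e : G) * y * (e : G)⁻¹ * y⁻¹ ∈ (T : Subgroup G) ⊓ E i) hy
  rwa [inv_mul_cancel_right] at this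

theorem star_clauses : StarClauses T (fun i => Cfsg.pResidualOf p (R i)) where
  inter := s.star_inf_iSup
  top := s.star_top s.gen s.perm
  alt i m := by
    rintro ⟨e⟩
    obtain ⟨ρ, ψ, hρ⟩ := s.lin.rep i
    obtain ⟨φ, hφ⟩ := s.rep_equiv hρ
    rcases (by omega : m = 0 ∨ m = 1 ∨ m = 2 ∨ 3 ≤ m) with rfl | rfl | rfl | hm
    · exfalso
      refine H51.block_not_isPGroup (s.hD i).block (((H72.pCore_isPGroup p).to_le (H := ⊤) fun x _ => ?_).of_equiv
        Subgroup.topEquiv)
      haveI : Subsingleton (Fin (2 * 0 + 1)) := Fin.subsingleton_one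
      exact (QuotientGroup.eq_one_iff x).1 (e.injective (Subtype.ext (Subsingleton.elim _ _)))
    · exact ⟨1, rfl⟩
    · exact ⟨2, rfl⟩
    exfalso
    let f := φ.symm.trans e
    by_cases hq : 3 < Fintype.card F
    · by_cases h2 : (2 : F) = 0
      · haveI : CharP F p := H72.charP_of_card s.lin.card
        have hp2 : p = 2 := (Nat.prime_dvd_prime_iff_eq Fact.out Nat.prime_two).1
          ((CharP.cast_eq_zero_iff F p 2).1 (by exact_mod_cast h2))
        obtain ⟨a, ha4, ha2⟩ := SL.alt_order_four (N := 2 * m + 1) (by omega)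
        have h4 : ((f.symm a : ↥(commutator (Matrix.SpecialLinearGroup (Fin 2) F))) :
            Matrix.SpecialLinearGroup (Fin 2) F) ^ 4 = 1 := by
          rw [← SubmonoidClass.coe_pow, ← map_pow, ha4, map_one]; rfl
        have hF2 : Fintype.card F = 2 ^ n := by rw [s.lin.card, hp2]
        have h2' := SL.sq_of_pow_four hF2 h4
        rw [← SubmonoidClass.coe_pow, ← map_pow] at h2'
        exact ha2 (f.symm.map_eq_one_iff.1 (Subtype.ext h2'))
      · obtain ⟨z, hz, hz1⟩ := SL.neg_one_facts h2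
        set z' : ↥(commutator (Matrix.SpecialLinearGroup (Fin 2) F)) :=
          ⟨z, by rw [SL.derived_eq_top hq]; exact mem_top _⟩
        have hc : f z' ∈ Subgroup.center ↥(alternatingGroup (Fin (2 * m + 1))) := by
          refine Subgroup.mem_center_iff.2 fun a => ?_
          obtain ⟨a, rfl⟩ := f.surjective a
          rw [← map_mul, ← map_mul]
          exact congrArg f (Subtype.ext (Subgroup.mem_center_iff.1 hz a))
        rw [alternatingGroup.center_eq_bot (by simp; omega), mem_bot] at hc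
        exact hz1 (congrArg Subtype.val (f.map_eq_one_iff.1 hc))
    · haveI : Nontrivial (Fin (2 * m + 1)) := Fin.nontrivial_iff_two_le.2 (by omega)
      have hcard := Nat.card_congr f.toEquiv
      have h2 : 2 * Nat.card ↥(alternatingGroup (Fin (2 * m + 1))) = (2 * m + 1).factorial := by
        rw [Nat.card_eq_fintype_card, two_mul_card_alternatingGroup]
        simp [Fintype.card_perm]
      have h7 : Nat.factorial 7 ≤ (2 * m + 1).factorial := Nat.factorial_le (by omega)
      have h7' : Nat.factorial 7 = 5040 := rfl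
      have h1 := Fintype.one_lt_card (α := F)
      rcases (by omega : Fintype.card F = 2 ∨ Fintype.card F = 3) with h | h
      · rw [SL.card_derived_two h] at hcard; omega
      · rw [SL.card_derived_three h] at hcard; omega
  shape i := by
    obtain ⟨ρ, ψ, hρ⟩ := s.lin.rep i
    obtain ⟨φ, hφ⟩ := s.rep_equiv hρ
    by_cases hq : 3 < Fintype.card F
    · refine Or.inl ⟨F, inferInstance, inferInstance, n, by rw [← s.lin.card]; exact hq, s.lin.card,
        ⟨φ.trans ((MulEquiv.subgroupCongr (SL.derived_eq_top hq)).trans Subgroup.topEquiv)⟩, ?_⟩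
      rw [s.star_inf_res i, s.normalizer_eq i hq]
    have hq' : Fintype.card F ≤ 3 := by omega
    obtain ⟨-, hFp, hp23⟩ := SL.small_cases s.lin.card hq'
    have hpow : ∀ x : ↥(Cfsg.pResidualOf p (R i)), x ∈ (CS ⊓ (Cfsg.pResidualOf p (R i))).subgroupOf (Cfsg.pResidualOf p (R i)) →
        (φ (QuotientGroup.mk x) : Matrix.SpecialLinearGroup (Fin 2) F) ^ (2 * p) = 1 := fun x hx => by
      rw [hφ]
      refine s.image_pow i hq' hρ ?_
      exact ((s.star_inf_res i).le (mem_subgroupOf.1 hx)).2
    rcases hp23 with hp2 | hp3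
    · refine Or.inr (Or.inl ⟨hp2, 1, ⟨?_⟩, ⟨?_⟩⟩)
      · haveI : Fact (Nat.Prime 3) := ⟨Nat.prime_three⟩
        refine mulEquivOfPrimeCardEq (p := 3) ?_ ?_
        · rw [Nat.card_congr φ.toEquiv, SL.card_derived_two (by omega)]
        · rw [Nat.card_eq_fintype_card]; rfl
      · haveI : Subsingleton ↥(((CS ⊓ (Cfsg.pResidualOf p (R i))).subgroupOf (Cfsg.pResidualOf p (R i))).map (QuotientGroup.mk' (Cfsg.pCore p ↥(Cfsg.pResidualOf p (R i))))) := by
          refine ⟨fun a b => ?_⟩
          suffices h : ∀ c ∈ ((CS ⊓ (Cfsg.pResidualOf p (R i))).subgroupOf (Cfsg.pResidualOf p (R i))).map (QuotientGroup.mk' (Cfsg.pCore p ↥(Cfsg.pResidualOf p (R i)))), c = 1 from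
            Subtype.ext ((h a a.2).trans (h b b.2).symm)
          rintro _ ⟨x, hx, rfl⟩
          refine φ.map_eq_one_iff.1 (Subtype.ext ?_)
          have h4 := hpow x hx
          have h3 : (φ (QuotientGroup.mk x) : Matrix.SpecialLinearGroup (Fin 2) F) ^ 3 = 1 := by
            have := pow_card_eq_one' (x := φ (QuotientGroup.mk x))
            rw [SL.card_derived_two (by omega)] at this
            rw [← SubmonoidClass.coe_pow, this]
            rfl
          rw [show 2 * p = 3 + 1 from by omega, pow_succ, h3, one_mul] at h4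
          exact h4
        haveI : Subsingleton ↥(alternatingGroup (Fin (2 * 1))) := by
          refine (Nat.card_eq_one_iff_unique.1 ?_).1
          rw [Nat.card_eq_fintype_card]; rfl
        letI : Unique ↥(((CS ⊓ (Cfsg.pResidualOf p (R i))).subgroupOf (Cfsg.pResidualOf p (R i))).map (QuotientGroup.mk' (Cfsg.pCore p ↥(Cfsg.pResidualOf p (R i))))) := uniqueOfSubsingleton 1
        letI : Unique ↥(alternatingGroup (Fin (2 * 1))) := uniqueOfSubsingleton 1
        exact MulEquiv.ofUnique
    · have h3 : Fintype.card F = 3 := by omega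
      obtain ⟨c⟩ := SL.derived_congr_three h3
      haveI : CharP F p := H72.charP_of_card s.lin.card
      have h2 : (2 : F) ≠ 0 := fun e => by
        have := (CharP.cast_eq_zero_iff F p 2).1 (by exact_mod_cast e)
        rw [hp3] at this
        exact absurd this (by norm_num)
      refine Or.inr (Or.inr ⟨hp3, ⟨φ.trans c⟩, ?_⟩)
      refine le_antisymm ?_ ?_
      · rintro _ ⟨x, hx, rfl⟩
        refine Subgroup.mem_center_iff.2 fun y => φ.injective ?_
        rw [map_mul, map_mul]
        refine Subtype.ext (Subgroup.mem_center_iff.1 (SL.mem_center_of_sq h2 ?_) _)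
        have h6 := hpow x hx
        have h8 : (φ (QuotientGroup.mk x) : Matrix.SpecialLinearGroup (Fin 2) F) ^ 8 = 1 := by
          have := pow_card_eq_one' (x := φ (QuotientGroup.mk x))
          rw [SL.card_derived_three h3] at this
          rw [← SubmonoidClass.coe_pow, this]
          rfl
        rw [show 2 * p = 6 from by omega] at h6
        rw [show 8 = 6 + 2 from rfl, pow_add, h6, one_mul, pow_two] at h8
        exact h8
      · intro y hy
        obtain ⟨x, rfl⟩ := QuotientGroup.mk_surjective y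
        refine ⟨x, mem_subgroupOf.2 ⟨?_, x.2⟩, rfl⟩
        refine s.mem_star_of_center hρ (e := inclusion (s.res_le_E i) x) ?_
        rw [← hφ x]
        refine SL.mem_center_of_commute_derived h2 fun g hg => ?_
        obtain ⟨z, hz⟩ := φ.surjective ⟨g, hg⟩
        have h := congrArg (fun w => (φ w : Matrix.SpecialLinearGroup (Fin 2) F)) (Subgroup.mem_center_iff.1 hy z)
        simp only [map_mul, coe_mul, hz] at h
        exact h

end Setting

/-- The linear blocks: the residuals of the rank one subgroups over the Baumann subgroup form a family of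
commuting blocks with the position of `C*(G,T)` as claimed. -/
theorem lin_main (hc : Ctx T M) (h : LinCase T E F n) (co : Core T E) (hQ : cee p G = Cfsg.pCore p G)
    (hS : (T : Subgroup G) ⊓ (⨆ i, E i) = Cfsg.baumannSubgroupOf p (T : Subgroup G) ⊔ Cfsg.pCore p G)
    (R : Fin r → Subgroup G)
    (hR : ∀ i, RankSub T F n (R i) ∧
      R i ⊔ cee p G = E i ⊔ Cfsg.baumannSubgroupOf p (T : Subgroup G) ⊔ cee p G)
    (hD : ∀ i, RankBlock T F n (R i)) :
    ∃ Bk : Fin r → Subgroup G, Family T Bk ∧ StarClauses T Bk :=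
  have s : Setting T M E R F n := ⟨hc, h, co, hQ, hS, hR, hD⟩
  ⟨_, s.family, s.star_clauses⟩

end Cfsg.Agent.H21.Push
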