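import Cfsg.Agent.H21.Push.LinBase
import Cfsg.Agent.H24.PGroupBasic
import Mathlib

/-!
The linear blocks commute pairwise.
-/

set_option autoImplicit false
set_option linter.unusedSectionVars false
set_option linter.style.haveILetI false

open scoped commutatorElement

namespace Cfsg.Agent.H21.Push

open Subgroup Cfsg.Agent Cfsg.Agent.H34.Push

universe u

section General

variable {G : Type u} [Group G] [Finite G] {p : ℕ} [Fact p.Prime]

/-- The derived group of a product with a centralised factor. -/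
theorem comm_sup_central {D W : Subgroup G} (h : W ≤ centralizer ((D ⊔ W : Subgroup G) : Set G)) :
    ⁅D ⊔ W, D ⊔ W⁆ = ⁅D, D⁆ := by
  refine le_antisymm ?_ (commutator_mono le_sup_left le_sup_left)
  have hW : ∀ w ∈ W, ∀ x ∈ D ⊔ W, x * w = w * x := fun w hw x hx => mem_centralizer_iff.1 (h hw) x hx
  have hn : ∀ x ∈ (D : Set G) ∪ W, x ∈ normalizer ((⁅D, D⁆ : Subgroup G) : Set G) := by
    rintro x (hx | hx)
    · exact normalizer_commutator_ge_right D D hx
    · refine H74.mem_normalizer_of_conj_mem fun y hy => ?_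
      rw [← hW x hx y (mem_sup_left (commutator_le_self D hy)), mul_inv_cancel_right]
      exact hy
  rw [show D ⊔ W = closure ((D : Set G) ∪ W) from by rw [Subgroup.closure_union, closure_eq, closure_eq]]
  refine comm_le_of_gen hn hn ?_
  rintro x (hx | hx) y hy
  · rcases hy with hy | hy
    · exact commutator_mem_commutator hx hy
    · rw [commutatorElement_eq_one_iff_mul_comm.2 (hW y hy x (mem_sup_left hx))]
      exact one_mem _
  · rw [commutatorElement_eq_one_iff_mul_comm.2 (hW x hx y (by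
      rcases hy with hy | hy
      exacts [mem_sup_left hy, mem_sup_right hy])).symm]
    exact one_mem _

/-- An element of a Sylow subgroup `T` fixes a point outside `W` of the section `X / W` of `T`. -/
theorem exists_fixed_of_mem_sylow (T : Sylow p G) {X W : Subgroup G} (hXT : X ≤ (T : Subgroup G)) {b : G}
    (hb : b ∈ (T : Subgroup G)) (hbX : b ∈ normalizer (X : Set G)) (hne : ¬ X ≤ W) :
    ∃ q ∈ X, q ∉ W ∧ ⁅b, q⁆ ∈ W := by
  obtain ⟨x, hxX, hxW⟩ := SetLike.not_le_iff_exists.1 hne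
  haveI := T.isPGroup'.isNilpotent
  obtain ⟨N, hN⟩ := Subgroup.nilpotent_iff_lowerCentralSeries.1 (inferInstance : Group.IsNilpotent ↥(T : Subgroup G))
  let f : ℕ → ↥(T : Subgroup G) := fun k => (fun y => ⁅(⟨b, hb⟩ : ↥(T : Subgroup G)), y⁆)^[k] ⟨x, hXT hxX⟩
  have hf : ∀ k, f (k + 1) = ⁅(⟨b, hb⟩ : ↥(T : Subgroup G)), f k⁆ := fun k => Function.iterate_succ_apply' _ _ _
  have hfX : ∀ k, (f k : G) ∈ X := by
    intro k
    induction k with
    | zero => exact hxX
    | succ k ih =>
      rw [hf k]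
      show ⁅b, (f k : G)⁆ ∈ X
      rw [commutatorElement_def]
      exact mul_mem ((mem_normalizer_iff.1 hbX _).1 ih) (inv_mem ih)
  have hfL : ∀ k, f k ∈ (⊤ : Subgroup ↥(T : Subgroup G)).lowerCentralSeries k := by
    intro k
    induction k with
    | zero => exact mem_top _
    | succ k ih =>
      rw [hf k, ← commutatorElement_inv]
      exact inv_mem (commutator_mem_commutator ih (mem_top _))
  have hend : (f N : G) ∈ W := by
    have := hfL N
    rw [hN, mem_bot] at this
    rw [this]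
    exact one_mem _
  classical
  have hex : ∃ k, (f k : G) ∈ W := ⟨N, hend⟩
  rcases hk : Nat.find hex with _ | k
  · exact absurd (hk ▸ Nat.find_spec hex : (f 0 : G) ∈ W) hxW
  refine ⟨f k, hfX k, Nat.find_min hex (by omega), ?_⟩
  have := hk ▸ Nat.find_spec hex
  rw [hf k] at this
  exact this

end General

variable {G : Type u} [Group G] [Finite G] {p : ℕ} [Fact p.Prime]
variable {F : Type} [Field F] [Fintype F] {n r : ℕ}
variable {T : Sylow p G} {M : Subgroup G} {E R : Fin r → Subgroup G}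

local notation "Q" => Cfsg.pCore p G
local notation "BT" => Cfsg.baumannSubgroupOf p (T : Subgroup G)
local notation "LT" => ell p (T : Subgroup G)

/-- `Ω₁(Z(O_p))` of a subgroup. -/
abbrev modW (p : ℕ) {G : Type u} [Group G] (X : Subgroup G) : Subgroup G :=
  Cfsg.omegaOneCenter p (Cfsg.pCoreOf p X)

/-- Its fixed points. -/
abbrev modZ (p : ℕ) {G : Type u} [Group G] (X : Subgroup G) : Subgroup G :=
  modW p X ⊓ centralizer (X : Set G)

theorem modW_comm {X : Subgroup G} {a b : G} (ha : a ∈ modW p X) (hb : b ∈ modW p X) : a * b = b * a := by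
  haveI := (H51.omegaOneCenter_isElementaryAbelian (p := p) (Cfsg.pCoreOf p X)).1
  exact setLike_mul_comm ha hb

namespace Setting

variable (s : Setting T M E R F n)
include s

theorem cross_cent {i j : Fin r} (h : i ≠ j) {u : G} (hu : u ∈ ⁅vee p G, E j⁆) {e : G} (he : e ∈ E i) :
    e * u = u * e :=
  mem_centralizer_iff.1 (commutator_eq_bot_iff_le_centralizer.1 (s.lin.cross j i h.symm) hu) e he

/-- `[W_i, B_i] ≤ [V, E_i]`. -/
theorem module_le (i : Fin r) :
    ⁅modW p (Cfsg.pResidualOf p (R i)), Cfsg.pResidualOf p (R i)⁆ ≤ ⁅vee p G, E i⁆ := by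
  set X := Cfsg.pResidualOf p (R i) with hX
  have hXn : X ≤ normalizer (modW p X : Set G) :=
    le_normalizer.trans (H51.normalizer_le_normalizer_omegaCore X)
  have hAW : ⁅modW p X, X⁆ ≤ modW p X := le_normalizer_iff_commutator_le_left.1 hXn
  have h1 : ⁅modW p X, X⁆ ≤ ⁅⁅modW p X, X⁆, X⁆ := by
    have hsup := H51.block_module_decomp (s.hD i).block
    have hcomm : ⁅⁅modW p X, X⁆, X⁆ ≤ modW p X := (commutator_mono hAW le_rfl).trans hAW
    calc ⁅modW p X, X⁆ = ⁅closure (((⁅modW p X, X⁆ : Subgroup G) : Set G) ∪ (modZ p X : Set G)), closure (X : Set G)⁆ := by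
          rw [Subgroup.closure_union, closure_eq, closure_eq, closure_eq, hsup]
      _ ≤ ⁅⁅modW p X, X⁆, X⁆ := by
          refine comm_le_of_gen ?_ (fun y hy => normalizer_commutator_ge_right _ _ hy) ?_
          · intro x hx
            have hxW : x ∈ modW p X := by
              rcases hx with hx | hx
              exacts [hAW hx, hx.1]
            refine H74.mem_normalizer_of_conj_mem fun y hy => ?_
            rwa [modW_comm hxW (hcomm hy), mul_inv_cancel_right]
          · rintro x (hx | hx) y hy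
            · exact commutator_mem_commutator hx hy
            · rw [commutatorElement_eq_one_iff_mul_comm.2 (mem_centralizer_iff.1 hx.2 y hy).symm]
              exact one_mem _
  refine h1.trans ((commutator_mono (s.hD i).omega le_rfl).trans ?_)
  set W := wee p (T : Subgroup G) with hW
  have hVW : vee p G ≤ W := le_sup_left
  haveI := vee_normal (G := G) (p := p)
  have hUV : ⁅vee p G, E i⁆ ≤ vee p G := commutator_le_left _ _
  haveI := s.core.W_elem.1
  calc ⁅W, X⁆ = ⁅closure ((vee p G : Set G) ∪ ((W ⊓ centralizer (LT : Set G) : Subgroup G) : Set G)),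
        closure (X : Set G)⁆ := by
        rw [Subgroup.closure_union, closure_eq, closure_eq, closure_eq, ← s.core.W_split]
    _ ≤ ⁅vee p G, E i⁆ := by
        refine comm_le_of_gen ?_ (fun y hy => normalizer_commutator_ge_right _ _ (s.res_le_E i hy)) ?_
        · intro x hx
          have hxW : x ∈ W := by
            rcases hx with hx | hx
            exacts [hVW hx, hx.1]
          refine H74.mem_normalizer_of_conj_mem fun y hy => ?_
          rwa [setLike_mul_comm hxW (hVW (hUV hy)), mul_inv_cancel_right]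
        · rintro x (hx | hx) y hy
          · exact commutator_mem_commutator hx (s.res_le_E i hy)
          · rw [commutatorElement_eq_one_iff_mul_comm.2 (mem_centralizer_iff.1 hx.2 y (s.res_le_L i hy)).symm]
            exact one_mem _

/-- A block either has elementary core or has no quadratic action on it. -/
theorem core_cases (i : Fin r) :
    Cfsg.pCoreOf p (Cfsg.pResidualOf p (R i)) = modW p (Cfsg.pResidualOf p (R i)) ∨
      (⁅Cfsg.pCoreOf p (Cfsg.pResidualOf p (R i)), Cfsg.pCoreOf p (Cfsg.pResidualOf p (R i))⁆ = modZ p (Cfsg.pResidualOf p (R i)) ∧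
        ∀ b : G, b ∈ BT → b ∉ centralizer (modW p (Cfsg.pResidualOf p (R i)) : Set G) →
          ¬ ⁅⁅Cfsg.pCoreOf p (Cfsg.pResidualOf p (R i)), zpowers b⁆, zpowers b⁆ ≤ (Cfsg.pResidualOf p (R i)) ⊓ centralizer ((Cfsg.pResidualOf p (R i) : Subgroup G) : Set G)) := by
  rcases (s.hD i).block.2.2.2.2 with ⟨F', _, _, m, -, -, -, h | ⟨-, -, h, -, -, -, hb⟩⟩ | ⟨-, m, -, -, h⟩
  · exact Or.inl h
  · exact Or.inr ⟨h, hb⟩
  · exact Or.inl h

theorem core_le_P (i : Fin r) : Cfsg.pCoreOf p (Cfsg.pResidualOf p (R i)) ≤ pee p (T : Subgroup G) := (s.hD i).core_le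

theorem derived_core_centralized (i j : Fin r) :
    (Cfsg.pResidualOf p (R i)) ≤ centralizer ((⁅Cfsg.pCoreOf p (Cfsg.pResidualOf p (R j)), Cfsg.pCoreOf p (Cfsg.pResidualOf p (R j))⁆ : Subgroup G) : Set G) := by
  have hP : IsPGroup p ↥(pee p (T : Subgroup G)) := (H72.pCore_isPGroup p).to_le inf_le_left
  have h1 : ⁅pee p (T : Subgroup G), pee p (T : Subgroup G)⁆ ≤
      (frattini ↥(pee p (T : Subgroup G))).map (pee p (T : Subgroup G)).subtype := by
    refine le_trans (le_of_eq ?_) (map_mono (H24.commutator_le_frattini hP))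
    rw [_root_.commutator_def, Subgroup.map_commutator, ← MonoidHom.range_eq_map, range_subtype]
  refine le_trans ?_ (centralizer_le (SetLike.coe_subset_coe.2
    ((commutator_mono (s.core_le_P j) (s.core_le_P j)).trans h1)))
  exact le_centralizer_iff.1 (commutator_eq_bot_iff_le_centralizer.1 (s.hD i).frat)

theorem module_centralized {i j : Fin r} (h : i ≠ j)
    (hZ : ⁅Cfsg.pCoreOf p (Cfsg.pResidualOf p (R j)), Cfsg.pCoreOf p (Cfsg.pResidualOf p (R j))⁆ = modZ p (Cfsg.pResidualOf p (R j))) :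
    (Cfsg.pResidualOf p (R i)) ≤ centralizer (modW p (Cfsg.pResidualOf p (R j)) : Set G) := by
  refine le_centralizer_iff.1 ((H51.block_module_decomp (s.hD j).block).ge.trans (sup_le ?_ ?_))
  · intro u hu
    exact mem_centralizer_iff.2 fun e he => s.cross_cent h (s.module_le j hu) (s.res_le_E i he)
  · show modZ p (Cfsg.pResidualOf p (R j)) ≤ _
    rw [← hZ]
    exact le_centralizer_iff.1 (s.derived_core_centralized i j)

theorem inf_res_norm {i j : Fin r} : LT ≤ normalizer (((Cfsg.pResidualOf p (R i)) ⊓ (Cfsg.pResidualOf p (R j)) : Subgroup G) : Set G) := fun _ hx =>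
  inf_normalizer_le_normalizer_inf ⟨s.res_norm i hx, s.res_norm j hx⟩

theorem inf_res_le {i j : Fin r} (h : i ≠ j) : (Cfsg.pResidualOf p (R i)) ⊓ (Cfsg.pResidualOf p (R j)) ≤ Cfsg.pCoreOf p (Cfsg.pResidualOf p (R j)) := fun _ hx =>
  (s.res_inf_Q j).le ⟨hx.2, s.inf_E_le h ⟨s.res_le_E i hx.1, s.res_le_E j hx.2⟩⟩

/-- An element of `B(T) ∩ E_i` outside `O_p(G)`. -/
theorem exists_B_E (i : Fin r) : ∃ b, b ∈ BT ∧ b ∈ E i ∧ b ∉ Q := by
  by_contra hcon
  push Not at hcon
  obtain ⟨ρ, ψ, hρ⟩ := s.lin.rep i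
  obtain ⟨P, hP⟩ := s.exists_sylow i
  refine SL.sylow_ne_bot s.lin.card (P.mapSurjective hρ.surj) ?_
  rw [Sylow.coe_mapSurjective, Subgroup.map_eq_bot_iff, hP]
  intro x hx
  rw [MonoidHom.mem_ker, s.rep_ker hρ]
  exact (s.T_inf_E i).le.trans (sup_le (fun y hy => hcon y hy.1 hy.2) le_rfl) ⟨hx, x.2⟩

/-- The image of `u ↦ [u, e]`. -/
theorem psi_commutator {i : Fin r} {ρ : ↥(E i) →* Matrix.SpecialLinearGroup (Fin 2) F}
    {ψ : ↥⁅vee p G, E i⁆ →* Multiplicative (Fin 2 → F)} (hρ : LinRep p (E i) ρ ψ) (e : ↥(E i))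
    (u c : ↥⁅vee p G, E i⁆) (hc : (c : G) = ⁅(u : G), (e : G)⁆) :
    Multiplicative.toAdd (ψ c) = Multiplicative.toAdd (ψ u) -
      ((ρ e : Matrix.SpecialLinearGroup (Fin 2) F) : Matrix (Fin 2) (Fin 2) F).mulVec
        (Multiplicative.toAdd (ψ u)) := by
  have hw : (e : G) * u * (e : G)⁻¹ ∈ ⁅vee p G, E i⁆ :=
    (mem_normalizer_iff.1 (normalizer_commutator_ge_right _ _ e.2) _).1 u.2
  have hcu : c = u * (⟨_, hw⟩ : ↥⁅vee p G, E i⁆)⁻¹ :=
    Subtype.ext (by rw [hc, coe_mul, coe_inv, commutatorElement_def]; group)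
  rw [hcu, map_mul, map_inv, toAdd_mul, toAdd_inv, hρ.act e u ⟨_, hw⟩ rfl, ← sub_eq_add_neg]

/-- What centralises the module of a block is trivial on its component. -/
theorem not_mem_centralizer_module {i : Fin r} {b : G} (hb : b ∈ E i) (hbQ : b ∉ Q) :
    b ∉ centralizer (modW p (Cfsg.pResidualOf p (R i)) : Set G) := by
  intro hcb
  obtain ⟨ρ, ψ, hρ⟩ := s.lin.rep i
  set X := Cfsg.pResidualOf p (R i) with hX
  set A := ⁅modW p X, X⁆ with hA
  have hAU : A ≤ ⁅vee p G, E i⁆ := s.module_le i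
  have hXW : X ≤ normalizer (modW p X : Set G) := le_normalizer.trans (H51.normalizer_le_normalizer_omegaCore X)
  have hAW : A ≤ modW p X := le_normalizer_iff_commutator_le_left.1 hXW
  have hXA : X ≤ normalizer (A : Set G) := normalizer_commutator_ge_right _ _
  let S : AddSubgroup (Fin 2 → F) :=
    { carrier := {v | ∃ u : ↥⁅vee p G, E i⁆, (u : G) ∈ A ∧ Multiplicative.toAdd (ψ u) = v}
      zero_mem' := ⟨1, A.one_mem, by simp⟩
      add_mem' := by
        rintro _ _ ⟨a, ha, rfl⟩ ⟨c, hc, rfl⟩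
        exact ⟨a * c, A.mul_mem ha hc, by simp⟩
      neg_mem' := by
        rintro _ ⟨a, ha, rfl⟩
        exact ⟨a⁻¹, A.inv_mem ha, by simp⟩ }
  obtain ⟨a, haA, ha⟩ : ∃ a : ↥⁅vee p G, E i⁆, (a : G) ∈ A ∧ ψ a ≠ 1 := by
    by_contra hcon
    push Not at hcon
    refine (H51.block_irreducible (s.hD i).block).1 (le_centralizer_iff.1 (H51.centralizes_of_residual
      (s.hD i).block.1 (H34.IsPGroup_of_isElementaryAbelian (H51.omegaOneCenter_isElementaryAbelian _)) hXW ?_))
    rw [commutator_eq_bot_iff_le_centralizer]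
    exact fun u hu => centralizer_le (SetLike.coe_subset_coe.2 (s.res_le_E i))
      ((hρ.kerψ ⟨u, hAU hu⟩).1 (hcon ⟨u, hAU hu⟩ hu))
  have htop : S = ⊤ := by
    refine H51.sl2_derived_irreducible S ?_ (v := Multiplicative.toAdd (ψ a)) ⟨a, haA, rfl⟩
      (fun h => ha (Multiplicative.toAdd.injective h))
    intro g hg v hv
    obtain ⟨u, hu, rfl⟩ := hv
    rw [← (s.rep_res hρ).1] at hg
    obtain ⟨x, rfl⟩ := hg
    have hw : (x : G) * u * (x : G)⁻¹ ∈ A := (mem_normalizer_iff.1 (hXA x.2) _).1 hu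
    exact ⟨⟨_, hAU hw⟩, hw, hρ.act _ u ⟨_, hAU hw⟩ rfl⟩
  refine hbQ ((s.rep_ker hρ ⟨b, hb⟩).1 (Subtype.ext ?_))
  refine Matrix.ext_iff_mulVec.2 fun v => ?_
  obtain ⟨u, hu, rfl⟩ : v ∈ S := htop ▸ AddSubgroup.mem_top v
  rw [← hρ.act ⟨b, hb⟩ u u (by
    show (u : G) = b * u * b⁻¹
    rw [← mem_centralizer_iff.1 hcb u (hAW hu), mul_inv_cancel_right])]
  exact (Matrix.one_mulVec _).symm

/-- Elements of `B(T) ∩ E_i` act trivially on the top layer of another block. -/
theorem top_fixed {i j : Fin r} (h : i ≠ j) {b : G} (hbB : b ∈ BT) (hb : b ∈ E i)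
    (hZ : ⁅Cfsg.pCoreOf p (Cfsg.pResidualOf p (R j)), Cfsg.pCoreOf p (Cfsg.pResidualOf p (R j))⁆ = modZ p (Cfsg.pResidualOf p (R j))) :
    ∀ q ∈ Cfsg.pCoreOf p (Cfsg.pResidualOf p (R j)), ⁅b, q⁆ ∈ modW p (Cfsg.pResidualOf p (R j)) := by
  set Y := Cfsg.pResidualOf p (R j) with hY
  set C := Cfsg.pCoreOf p Y with hC
  have hW : modW p Y ≤ C := H51.omega_le_core Y
  by_cases hne : C ≤ modW p Y
  · intro q hq
    have hbn : b ∈ normalizer (C : Set G) :=
      H51.normalizer_le_normalizer_core Y (s.res_norm j (s.B_le_L hbB))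
    rw [commutatorElement_def]
    exact hne (mul_mem ((mem_normalizer_iff.1 hbn _).1 hq) (inv_mem hq))
  have hbY : b ∈ normalizer (Y : Set G) := s.res_norm j (s.B_le_L hbB)
  have hbW : b ∈ normalizer (modW p Y : Set G) := H51.normalizer_le_normalizer_omegaCore Y hbY
  have hYW : Y ≤ normalizer (modW p Y : Set G) := le_normalizer.trans (H51.normalizer_le_normalizer_omegaCore Y)
  have hCW : C ≤ normalizer (modW p Y : Set G) := (H72.pCoreOf_le p Y).trans hYW
  let F0 : Subgroup G :=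
    { carrier := {q | q ∈ C ∧ ⁅b, q⁆ ∈ modW p Y}
      one_mem' := ⟨one_mem _, by simp⟩
      mul_mem' := by
        rintro x y ⟨hx, hx'⟩ ⟨hy, hy'⟩
        refine ⟨mul_mem hx hy, ?_⟩
        rw [show ⁅b, x * y⁆ = ⁅b, x⁆ * (x * ⁅b, y⁆ * x⁻¹) from by simp only [commutatorElement_def]; group]
        exact mul_mem hx' ((mem_normalizer_iff.1 (hCW hx) _).1 hy')
      inv_mem' := by
        rintro x ⟨hx, hx'⟩
        refine ⟨inv_mem hx, ?_⟩
        rw [show ⁅b, x⁻¹⁆ = x⁻¹ * ⁅b, x⁆⁻¹ * x from by simp only [commutatorElement_def]; group]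
        exact (mem_normalizer_iff''.1 (hCW hx) _).1 (inv_mem hx') }
  have hWF : modW p Y ≤ F0 := fun w hw => by
    refine ⟨hW hw, ?_⟩
    rw [commutatorElement_def]
    exact mul_mem ((mem_normalizer_iff.1 hbW _).1 hw) (inv_mem hw)
  have hYF : Y ≤ normalizer (F0 : Set G) := by
    refine fun e he => H74.mem_normalizer_of_conj_mem fun q ⟨hq, hq'⟩ => ⟨?_, ?_⟩
    · exact (mem_normalizer_iff.1 (H72.le_normalizer_pCoreOf p Y he) _).1 hq
    have hk : ⁅b⁻¹, e⁻¹⁆ ∈ C := by
      refine (s.res_inf_Q j).le ⟨?_, ?_⟩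
      · rw [commutatorElement_def, inv_inv, inv_inv]
        exact mul_mem ((mem_normalizer_iff''.1 hbY e⁻¹).1 (inv_mem he)) he
      · exact s.hQ ▸ s.lin.comm i j h (commutator_mem_commutator (inv_mem hb) (inv_mem (s.res_le_E j he)))
    set k := ⁅b⁻¹, e⁻¹⁆ with hk'
    rw [show ⁅b, e * q * e⁻¹⁆ = e * (b * ⁅k, q⁆ * b⁻¹ * ⁅b, q⁆) * e⁻¹ from by
      simp only [hk', commutatorElement_def]; group]
    refine (mem_normalizer_iff.1 (hYW he) _).1 (mul_mem ((mem_normalizer_iff.1 hbW _).1 ?_) hq')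
    exact (hZ.le.trans inf_le_left) (commutator_mem_commutator hk hq)
  obtain ⟨q, hq, hqW, hqb⟩ := exists_fixed_of_mem_sylow T (((s.hD j).core_le.trans inf_le_left).trans s.Q_le_T) (s.B_le_T hbB)
    (H51.normalizer_le_normalizer_core Y hbY) hne
  rcases H51.block_top_irreducible (s.hD j).block F0 hWF (fun x hx => hx.1) hYF with e | e
  · exact absurd (e.le (show q ∈ F0 from ⟨hq, hqb⟩)) hqW
  · exact fun x hx => (e.ge hx).2

/-- In the exceptional case an element of `B(T)` would act quadratically. -/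
theorem not_both {i j : Fin r} (h : i ≠ j)
    (hi : ⁅Cfsg.pCoreOf p (Cfsg.pResidualOf p (R i)), Cfsg.pCoreOf p (Cfsg.pResidualOf p (R i))⁆ = modZ p (Cfsg.pResidualOf p (R i)) ∧
        ∀ b : G, b ∈ BT → b ∉ centralizer (modW p (Cfsg.pResidualOf p (R i)) : Set G) →
          ¬ ⁅⁅Cfsg.pCoreOf p (Cfsg.pResidualOf p (R i)), zpowers b⁆, zpowers b⁆ ≤ (Cfsg.pResidualOf p (R i)) ⊓ centralizer ((Cfsg.pResidualOf p (R i) : Subgroup G) : Set G))
    (hj : ⁅Cfsg.pCoreOf p (Cfsg.pResidualOf p (R j)), Cfsg.pCoreOf p (Cfsg.pResidualOf p (R j))⁆ = modZ p (Cfsg.pResidualOf p (R j)))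
    (hDi : ((Cfsg.pResidualOf p (R i)) ⊓ (Cfsg.pResidualOf p (R j))) ⊔ modW p (Cfsg.pResidualOf p (R i)) = Cfsg.pCoreOf p (Cfsg.pResidualOf p (R i)))
    (hDj : ((Cfsg.pResidualOf p (R i)) ⊓ (Cfsg.pResidualOf p (R j))) ⊔ modW p (Cfsg.pResidualOf p (R j)) = Cfsg.pCoreOf p (Cfsg.pResidualOf p (R j))) : False := by
  set X := Cfsg.pResidualOf p (R i) with hX
  set Y := Cfsg.pResidualOf p (R j) with hY
  set C := Cfsg.pCoreOf p X with hC
  set D := X ⊓ Y with hD
  have hcent : ∀ Z : Subgroup G, modW p Z ≤ centralizer (Cfsg.pCoreOf p Z : Set G) := fun Z =>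
    le_centralizer_iff.1 (H51.core_le_centralizer_omega Z)
  have hZZ : modZ p X = modZ p Y := by
    rw [← hi.1, ← hj, ← hDi, ← hDj,
      comm_sup_central (hDi.symm ▸ hcent X), comm_sup_central (hDj.symm ▸ hcent Y)]
  obtain ⟨b, hbB, hbE, hbQ⟩ := s.exists_B_E i
  obtain ⟨ρ, ψ, hρ⟩ := s.lin.rep i
  refine hi.2 b hbB (s.not_mem_centralizer_module hbE hbQ) ?_
  have hbX : b ∈ normalizer (X : Set G) := s.res_norm i (s.B_le_L hbB)
  have hbY : b ∈ normalizer (Y : Set G) := s.res_norm j (s.B_le_L hbB)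
  have hbC : b ∈ normalizer (C : Set G) := H51.normalizer_le_normalizer_core X hbX
  have hbW : b ∈ normalizer (modW p X : Set G) := H51.normalizer_le_normalizer_omegaCore X hbX
  have hbWY : b ∈ normalizer (modW p Y : Set G) := H51.normalizer_le_normalizer_omegaCore Y hbY
  have hbZ : b ∈ normalizer (modZ p X : Set G) := H51.normalizer_le_normalizer_omegaCore_fixed X hbX
  have hCX : C ≤ X := H72.pCoreOf_le p X
  have hZX : X ≤ normalizer (modZ p X : Set G) :=
    le_normalizer.trans (H51.normalizer_le_normalizer_omegaCore_fixed X)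
  have hWC : modW p X ≤ C := H51.omega_le_core X
  have hbz : ∀ z ∈ modZ p X, ⁅z, b⁆ ∈ modZ p X := fun z hz => by
    rw [show ⁅z, b⁆ = z * (b * z⁻¹ * b⁻¹) from by simp only [commutatorElement_def]; group]
    exact mul_mem hz ((mem_normalizer_iff.1 hbZ _).1 (inv_mem hz))
  let K1 : Subgroup G :=
    { carrier := {x | x ∈ C ∧ ⁅x, b⁆ ∈ modZ p X}
      one_mem' := ⟨one_mem _, by simp⟩
      mul_mem' := by
        rintro x y ⟨hx, hx'⟩ ⟨hy, hy'⟩
        refine ⟨mul_mem hx hy, ?_⟩
        rw [show ⁅x * y, b⁆ = x * ⁅y, b⁆ * x⁻¹ * ⁅x, b⁆ from by simp only [commutatorElement_def]; group]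
        exact mul_mem ((mem_normalizer_iff.1 (hZX (hCX hx)) _).1 hy') hx'
      inv_mem' := by
        rintro x ⟨hx, hx'⟩
        refine ⟨inv_mem hx, ?_⟩
        rw [show ⁅x⁻¹, b⁆ = x⁻¹ * ⁅x, b⁆⁻¹ * x from by simp only [commutatorElement_def]; group]
        exact (mem_normalizer_iff''.1 (hZX (hCX hx)) _).1 (inv_mem hx') }
  have hZK : modZ p X ≤ K1 := fun z hz => ⟨hWC hz.1, hbz z hz⟩
  have hbK : b ∈ normalizer (K1 : Set G) := H74.mem_normalizer_of_conj_mem fun x ⟨hx, hx'⟩ => by
    refine ⟨(mem_normalizer_iff.1 hbC _).1 hx, ?_⟩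
    rw [show ⁅b * x * b⁻¹, b⁆ = b * ⁅x, b⁆ * b⁻¹ from by simp only [commutatorElement_def]; group]
    exact (mem_normalizer_iff.1 hbZ _).1 hx'
  have hCK : C ≤ normalizer (K1 : Set G) := fun q hq => H74.mem_normalizer_of_conj_mem fun x hx => by
    rw [show q * x * q⁻¹ = ⁅q, x⁆ * x from by simp only [commutatorElement_def]; group]
    exact mul_mem (hZK (hi.1 ▸ commutator_mem_commutator hq hx.1)) hx
  have hXW : X ≤ normalizer (modW p X : Set G) := le_normalizer.trans (H51.normalizer_le_normalizer_omegaCore X)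
  have hAW : ⁅modW p X, X⁆ ≤ modW p X := le_normalizer_iff_commutator_le_left.1 hXW
  have hsingle : ∀ y ∈ ({b} : Set G), y ∈ normalizer (K1 : Set G) := by
    rintro y rfl
    exact hbK
  -- the commutators with `b` of `W` lie in `K1`
  have hW1 : ∀ w ∈ modW p X, ⁅w, b⁆ ∈ K1 := by
    have key : ⁅closure (((⁅modW p X, X⁆ : Subgroup G) : Set G) ∪ (modZ p X : Set G)), closure ({b} : Set G)⁆ ≤ K1 := by
      refine comm_le_of_gen (fun x hx => hCK (hWC ?_)) hsingle ?_
      · rcases hx with hx | hx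
        exacts [hAW hx, hx.1]
      rintro a (ha | ha) y rfl
      · obtain ⟨P, hP⟩ := s.exists_sylow i
        have hbP : ρ ⟨y, hbE⟩ ∈ ((P.mapSurjective hρ.surj : Sylow p _) :
            Subgroup (Matrix.SpecialLinearGroup (Fin 2) F)) := by
          rw [Sylow.coe_mapSurjective]
          exact mem_map_of_mem _ (by rw [hP]; exact s.B_le_T hbB)
        have hU : ∀ v ∈ ⁅vee p G, E i⁆, ⁅v, y⁆ ∈ ⁅vee p G, E i⁆ := fun v hv => by
          rw [show ⁅v, y⁆ = v * (y * v⁻¹ * y⁻¹) from by simp only [commutatorElement_def]; group]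
          exact mul_mem hv ((mem_normalizer_iff.1 (normalizer_commutator_ge_right _ _ hbE) _).1 (inv_mem hv))
        have hWy : ∀ v ∈ modW p X, ⁅v, y⁆ ∈ modW p X := fun v hv => by
          rw [show ⁅v, y⁆ = v * (y * v⁻¹ * y⁻¹) from by simp only [commutatorElement_def]; group]
          exact mul_mem hv ((mem_normalizer_iff.1 hbW _).1 (inv_mem hv))
        refine ⟨hWC (hWy a (hAW ha)), hWy _ (hWy a (hAW ha)), ?_⟩
        refine centralizer_le (SetLike.coe_subset_coe.2 (s.res_le_E i))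
          ((hρ.kerψ ⟨⁅⁅a, y⁆, y⁆, hU _ (hU a (s.module_le i ha))⟩).1 (Multiplicative.toAdd.injective ?_))
        rw [toAdd_one, s.psi_commutator hρ ⟨y, hbE⟩ ⟨⁅a, y⁆, hU a (s.module_le i ha)⟩ _ rfl,
          s.psi_commutator hρ ⟨y, hbE⟩ ⟨a, s.module_le i ha⟩ ⟨⁅a, y⁆, hU a (s.module_le i ha)⟩ rfl]
        set g : Matrix (Fin 2) (Fin 2) F :=
          ((ρ ⟨y, hbE⟩ : Matrix.SpecialLinearGroup (Fin 2) F) : Matrix (Fin 2) (Fin 2) F) with hg
        have hg2 : (g - 1) * (g - 1) = 0 := SL.sylow_sq s.lin.card _ hbP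
        set v := Multiplicative.toAdd (ψ ⟨a, s.module_le i ha⟩)
        calc v - g.mulVec v - g.mulVec (v - g.mulVec v) = ((g - 1) * (g - 1)).mulVec v := by
              simp only [← Matrix.mulVec_mulVec, Matrix.sub_mulVec, Matrix.one_mulVec, Matrix.mulVec_sub]
              abel
          _ = 0 := by rw [hg2, Matrix.zero_mulVec]
      · exact hZK (hbz a ha)
    rw [Subgroup.closure_union, closure_eq, closure_eq, H51.block_module_decomp (s.hD i).block] at key
    exact fun w hw => key (commutator_mem_commutator hw (subset_closure rfl))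
  -- hence those of the core
  have hQ1 : ⁅C, zpowers b⁆ ≤ K1 := by
    rw [zpowers_eq_closure, ← hDi, show D ⊔ modW p X = closure ((D : Set G) ∪ modW p X) from by
      rw [Subgroup.closure_union, closure_eq, closure_eq]]
    refine comm_le_of_gen (fun x hx => hCK (hDi.le ?_)) hsingle ?_
    · rcases hx with hx | hx
      exacts [mem_sup_left hx, mem_sup_right hx]
    rintro d (hd | hd) y rfl
    · have hdD : ⁅d, y⁆ ∈ D := by
        rw [show ⁅d, y⁆ = d * (y * d⁻¹ * y⁻¹) from by simp only [commutatorElement_def]; group]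
        exact mul_mem hd ((mem_normalizer_iff.1 (s.inf_res_norm (i := i) (j := j) (s.B_le_L hbB)) _).1 (inv_mem hd))
      have hdW : ⁅d, y⁆ ∈ modW p Y := by
        rw [← commutatorElement_inv]
        exact inv_mem (s.top_fixed h hbB hbE hj d (s.inf_res_le h hd))
      refine ⟨hDi.le (mem_sup_left hdD), ?_⟩
      have key : ⁅closure (((⁅modW p Y, Y⁆ : Subgroup G) : Set G) ∪ (modZ p Y : Set G)), closure ({y} : Set G)⁆ ≤ modZ p Y := by
        refine comm_le_of_gen ?_ ?_ ?_
        · intro x hx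
          have hxY : x ∈ Y := by
            rcases hx with hx | hx
            · exact H72.pCoreOf_le p Y (H51.omega_le_core Y (le_normalizer_iff_commutator_le_left.1
                (le_normalizer.trans (H51.normalizer_le_normalizer_omegaCore Y)) hx))
            · exact H72.pCoreOf_le p Y (H51.omega_le_core Y hx.1)
          exact H51.normalizer_le_normalizer_omegaCore_fixed Y (le_normalizer hxY)
        · rintro z rfl
          exact hZZ ▸ hbZ
        · rintro x (hx | hx) z rfl
          · rw [commutatorElement_eq_one_iff_mul_comm.2 (s.cross_cent h (s.module_le j hx) hbE).symm]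
            exact one_mem _
          · exact hZZ ▸ hbz x (hZZ.symm ▸ hx)
      rw [Subgroup.closure_union, closure_eq, closure_eq, H51.block_module_decomp (s.hD j).block] at key
      exact hZZ.symm ▸ key (commutator_mem_commutator hdW (subset_closure rfl))
    · exact hW1 d hd
  refine (commutator_mono hQ1 le_rfl).trans ?_
  refine le_trans ?_ (le_inf ((inf_le_left.trans hWC).trans hCX) inf_le_right : modZ p X ≤ _)
  rw [zpowers_eq_closure, ← closure_eq K1]
  refine comm_le_of_gen (fun x hx => hZX (hCX hx.1)) ?_ ?_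
  · rintro y rfl
    exact hbZ
  · rintro x hx y rfl
    exact hx.2

/-- The blocks commute pairwise. -/
theorem res_comm {i j : Fin r} (h : i ≠ j) : ⁅(Cfsg.pResidualOf p (R i)), (Cfsg.pResidualOf p (R j))⁆ = ⊥ := by
  have hp' : IsPGroup p ↥((Cfsg.pResidualOf p (R i)) ⊓ (Cfsg.pResidualOf p (R j))) := (H72.pCoreOf_isPGroup p _).to_le (s.inf_res_le h)
  have hle : ⁅(Cfsg.pResidualOf p (R i)), (Cfsg.pResidualOf p (R j))⁆ ≤ (Cfsg.pResidualOf p (R i)) ⊓ (Cfsg.pResidualOf p (R j)) :=
    le_inf (le_normalizer_iff_commutator_le_left.1 ((s.res_le_L j).trans (s.res_norm i)))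
      (le_normalizer_iff_commutator_le_right.1 ((s.res_le_L i).trans (s.res_norm j)))
  by_cases hc : (Cfsg.pResidualOf p (R i)) ≤ centralizer (((Cfsg.pResidualOf p (R i)) ⊓ (Cfsg.pResidualOf p (R j)) : Subgroup G) : Set G)
  · exact H51.commute_of_centralizes (s.hD i).block.1 hp' hc hle
  by_cases hc' : (Cfsg.pResidualOf p (R j)) ≤ centralizer (((Cfsg.pResidualOf p (R i)) ⊓ (Cfsg.pResidualOf p (R j)) : Subgroup G) : Set G)
  · rw [commutator_comm]
    exact H51.commute_of_centralizes (s.hD j).block.1 hp' hc' ((commutator_comm _ _).le.trans hle)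
  exfalso
  have elem : ∀ i j : Fin r, i ≠ j → ∀ D : Subgroup G, D ≤ Cfsg.pCoreOf p (Cfsg.pResidualOf p (R j)) →
      Cfsg.pCoreOf p (Cfsg.pResidualOf p (R j)) = modW p (Cfsg.pResidualOf p (R j)) → (Cfsg.pResidualOf p (R i)) ≤ centralizer (D : Set G) := by
    intro i j h D hD he
    refine le_centralizer_iff.1 fun d hd => mem_centralizer_iff.2 fun e he' => ?_
    refine s.cross_cent h (s.module_le j ?_) (s.res_le_E i he')
    have h1 := hD hd
    rw [← (s.hD j).block.2.2.1] at h1
    exact commutator_mono he.le le_rfl h1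
  rcases s.core_cases j with hj | hj
  · exact hc (elem i j h _ (s.inf_res_le h) hj)
  rcases s.core_cases i with hi | hi
  · exact hc' (elem j i h.symm _ (inf_comm (Cfsg.pResidualOf p (R i)) (Cfsg.pResidualOf p (R j)) ▸ s.inf_res_le h.symm) hi)
  have hDj := H51.block_top_irreducible (s.hD j).block ((Cfsg.pResidualOf p (R i)) ⊓ (Cfsg.pResidualOf p (R j)) ⊔ modW p (Cfsg.pResidualOf p (R j))) le_sup_right
    (sup_le (s.inf_res_le h) (H51.omega_le_core _)) (fun x hx => normalizer_inf_normalizer_le_normalizer_sup _ _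
      ⟨s.inf_res_norm (s.res_le_L j hx), H51.normalizer_le_normalizer_omegaCore _ (le_normalizer hx)⟩)
  have hDi := H51.block_top_irreducible (s.hD i).block ((Cfsg.pResidualOf p (R i)) ⊓ (Cfsg.pResidualOf p (R j)) ⊔ modW p (Cfsg.pResidualOf p (R i))) le_sup_right
    (sup_le (inf_comm (Cfsg.pResidualOf p (R i)) (Cfsg.pResidualOf p (R j)) ▸ s.inf_res_le h.symm) (H51.omega_le_core _))
    (fun x hx => normalizer_inf_normalizer_le_normalizer_sup _ _
      ⟨s.inf_res_norm (s.res_le_L i hx), H51.normalizer_le_normalizer_omegaCore _ (le_normalizer hx)⟩)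
  rcases hDj with hDj | hDj
  · exact hc ((s.module_centralized h hj.1).trans (centralizer_le (SetLike.coe_subset_coe.2 (le_sup_left.trans hDj.le))))
  rcases hDi with hDi | hDi
  · exact hc' ((s.module_centralized h.symm hi.1).trans
      (centralizer_le (SetLike.coe_subset_coe.2 (le_sup_left.trans hDi.le))))
  exact s.not_both h hi hj.1 hDi hDj

end Setting

end Cfsg.Agent.H21.Push
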